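import Cfsg.Agent.Lib.Fischer.TT
import Cfsg.Agent.Lib.PermCert.Cox
import Cfsg.Agent.Lib.Transfer.BS
import Cfsg.Agent.Lib.Comp.Loc
import Cfsg.Agent.Lib.Solv.Fact
import Cfsg.Prelude.Def_FischerSpaces

/-! General theory of 3-transpositions: the classes `V_d`, `W_d` and the cores `O₂`, `O₃`. -/

set_option autoImplicit false
set_option linter.unusedSectionVars false
set_option linter.unusedVariables false
set_option linter.style.longLine false

namespace Cfsg.Agent.Tr3

open Subgroup Cfsg.Agent.Fi Cfsg.Agent.Comp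
open scoped commutatorElement

universe u
variable {G : Type u} [Group G] {D : Set G}

theorem tt_of (h : IsThreeTranspositionSet D) (hc : ∀ g : G, ∀ d ∈ D, g * d * g⁻¹ ∈ D) : TT D := by
  have sq : ∀ x ∈ D, x * x = 1 := fun x hx => by rw [← pow_two, ← h.1 x hx, pow_orderOf_eq_one]
  refine ⟨sq, fun x hx e => ?_, hc, fun x hx y hy hn => ?_⟩
  · have := h.1 x hx
    rw [e, orderOf_one] at this
    cases this
  have i1 := inv_eq_of_mul_eq_one_left (sq x hx)
  have i2 := inv_eq_of_mul_eq_one_left (sq y hy)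
  rcases h.2 x hx y hy with e | e
  · refine absurd ?_ hn
    have := inv_eq_of_mul_eq_one_left (pow_two (x * y) ▸ e)
    rw [mul_inv_rev, i1, i2] at this
    exact this.symm
  · have : x * y * x * (y * x * y) = 1 := by rw [← e]; simp only [pow_succ, pow_zero, one_mul, mul_assoc]
    rw [eq_inv_of_mul_eq_one_left this, mul_inv_rev, mul_inv_rev, i1, i2, mul_assoc]

theorem tt_grp (h : IsThreeTranspositionGroup D) : TT D := tt_of h.1 h.2.1

theorem tt_cls (h : IsThreeTranspositionClass D) : TT D := tt_of h.1 fun g x hx => by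
  obtain ⟨d, -, rfl⟩ := h.2.1
  exact IsConj.trans hx (isConj_iff.mpr ⟨g, rfl⟩)

theorem cls_conj (h : IsThreeTranspositionClass D) {a b : G} (ha : a ∈ D) (hb : b ∈ D) :
    ∃ g : G, g * a * g⁻¹ = b := by
  obtain ⟨d, -, rfl⟩ := h.2.1
  exact isConj_iff.mp ((show IsConj d a from ha).symm.trans hb)

theorem cls_grp (h : IsThreeTranspositionClass D) : IsThreeTranspositionGroup D :=
  ⟨h.1, (tt_cls h).conj, h.2.2⟩

theorem cls_of (h : IsThreeTranspositionGroup D) (hne : D.Nonempty)
    (ht : ∀ a ∈ D, ∀ b ∈ D, ∃ g : G, g * a * g⁻¹ = b) : IsThreeTranspositionClass D := by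
  obtain ⟨d, hd⟩ := hne
  refine ⟨h.1, ⟨d, hd, Set.ext fun x => ⟨fun hx => isConj_iff.mpr (ht d hd x hx), fun hx => ?_⟩⟩, h.2.2⟩
  obtain ⟨g, rfl⟩ := isConj_iff.mp hx
  exact h.2.1 g d hd

theorem ord2 (h : TT D) {x : G} (hx : x ∈ D) : orderOf x = 2 :=
  orderOf_eq_prime (by rw [pow_two, h.sq x hx]) (h.ne x hx)

theorem tt_set (h : TT D) : IsThreeTranspositionSet D :=
  ⟨fun _ hx => ord2 h hx, fun x hx y hy => by
    by_cases hc : Commute x y
    · exact Or.inl (h.sq2 hx hy hc)
    · exact Or.inr (h.cube hx hy hc)⟩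

theorem eq_of_mul_eq_one' (h : TT D) {x y : G} (hx : x ∈ D) (e : x * y = 1) : x = y := by
  rw [← h.inv hx]; exact inv_eq_of_mul_eq_one_right e

theorem commute_conj_iff {g x y : G} : Commute (g * x * g⁻¹) (g * y * g⁻¹) ↔ Commute x y := by
  have := (MulAut.conj g).injective.eq_iff (a := x * y) (b := y * x)
  simp only [map_mul, MulAut.conj_apply] at this
  exact this

theorem commute_conj_left {g x y : G} : Commute (g * x * g⁻¹) y ↔ Commute x (g⁻¹ * y * g⁻¹⁻¹) := by
  rw [← commute_conj_iff (g := g) (x := x)]; simp [mul_assoc]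

theorem conj_inj' {g x y : G} : g * x * g⁻¹ = g * y * g⁻¹ ↔ x = y := by simp

/-- an element of a `p`-subgroup killed by a power prime to `p` is trivial -/
theorem eq_one_of_pgroup {p n : ℕ} {P : Subgroup G} (hP : IsPGroup p P) {x : G} (hx : x ∈ P) (h : x ^ n = 1)
    (hc : n.Coprime p) : x = 1 := by
  obtain ⟨k, hk⟩ := IsPGroup.exists_pow_eq_one hP hx
  rw [← orderOf_eq_one_iff]
  exact Nat.eq_one_of_dvd_coprimes (hc.pow_right k) (orderOf_dvd_of_pow_eq_one h) (orderOf_dvd_of_pow_eq_one hk)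

/-- two members of `D` whose product lies in a `p`-group, `p ≠ 3`, commute -/
theorem commute_of_mem (h : TT D) {p : ℕ} (hp : (3 : ℕ).Coprime p) {P : Subgroup G} (hP : IsPGroup p P) {x y : G}
    (hx : x ∈ D) (hy : y ∈ D) (hm : (x * y) ^ 2 ∈ P) : Commute x y := by
  by_contra hc
  have h3 := h.cube hx hy hc
  have h1 : (x * y) ^ 2 = 1 := eq_one_of_pgroup hP hm (by rw [← pow_mul, mul_comm, pow_mul, h3, one_pow]) hp
  have : x * y = 1 := by rw [pow_succ, h1, one_mul] at h3; exact h3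
  exact hc (eq_of_mul_eq_one' h hx this ▸ Commute.refl _)

/-- two commuting members of `D` whose product lies in a `p`-group, `p` odd, are equal -/
theorem eq_of_mem (h : TT D) {p : ℕ} (hp : (2 : ℕ).Coprime p) {P : Subgroup G} (hP : IsPGroup p P) {x y : G}
    (hx : x ∈ D) (hy : y ∈ D) (hc : Commute x y) (hm : x * y ∈ P) : x = y :=
  eq_of_mul_eq_one' h hx (eq_one_of_pgroup hP hm (h.sq2 hx hy hc) hp)

variable [Finite G]

/-- an involution whose products with its conjugates have 3-power order acts trivially modulo `O₃` -/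
theorem three_core {d : G} (hd : orderOf d = 2) (h : ∀ g : G, ∃ k, orderOf (d * (g * d * g⁻¹)) = 3 ^ k) (g : G) :
    d * (g * d * g⁻¹) ∈ pCore 3 G := by
  haveI : Fact (Nat.Prime 3) := ⟨by norm_num⟩
  have hdd : d * d = 1 := by rw [← pow_two, ← hd, pow_orderOf_eq_one]
  have hi : d⁻¹ = d := inv_eq_of_mul_eq_one_left hdd
  have iso : IsIsolatedInvolution d := Transfer.isolated_of_odd hd fun g => by
    obtain ⟨k, hk⟩ := h g
    rw [hk]; exact Odd.pow (by decide)
  set N := oddCore G with hN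
  have hcop : (Nat.card (zpowers d)).Coprime (Nat.card N) := by
    rw [Nat.card_zpowers, hd]; exact (Transfer.odd_iff_coprime_two.1 Transfer.odd_card_oddCore).symm
  have hs : Group.IsSolvable (zpowers d) ∨ Group.IsSolvable N := Or.inl inferInstance
  have hAK : zpowers d ≤ normalizer (N : Set G) := le_normalizer_normal _ _
  obtain ⟨R, hR, hRd⟩ := exists_invariant_sylIn 3 hAK hcop hs
  have hCR : Solv.IsProd N R (N ⊓ centralizer {d}) := by
    refine Solv.isProd_of_coprime hR.le inf_le_left (Nat.coprime_of_dvd fun p hp h1 h2 => ?_)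
    haveI := Fact.mk hp
    by_cases h3 : p = 3
    · subst h3; exact hR.not_dvd_relIndex h1
    obtain ⟨P, hP, hPd⟩ := exists_invariant_sylIn p hAK hcop hs
    refine hP.not_dvd_relIndex_of_le (le_inf hP.le fun x hx => ?_) inf_le_left h2
    obtain ⟨k, hk⟩ := h x
    have hm : d * (x * d * x⁻¹) ∈ P := by
      have := mul_mem (conj_mem_of_mem_normalizer (hPd (mem_zpowers d)) hx) (inv_mem hx)
      rw [hi] at this; simpa only [mul_assoc] using this
    have := eq_one_of_pgroup hP.isP hm (n := 3 ^ k) (by rw [← hk, pow_orderOf_eq_one])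
      (Nat.Coprime.pow_left k ((Nat.coprime_primes (by norm_num) hp).2 (Ne.symm h3)))
    rw [Transfer.mem_centralizer_singleton', Transfer.commute_iff_conj]
    rw [← hi]; exact (inv_eq_of_mul_eq_one_right this).symm.trans rfl |>.trans rfl |> fun e => by rw [hi]; exact e.trans hi
  have key : ∀ g : G, ∃ r ∈ R, g * d * g⁻¹ = r * d * r⁻¹ := by
    intro g
    have hg : g ∈ N ⊔ centralizer {d} := by rw [sup_comm, Transfer.zstar_sup iso]; trivial
    obtain ⟨n, hn, c, hc, rfl⟩ := (mem_sup_of_le_normalizer' (le_normalizer_normal N _)).1 hg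
    obtain ⟨r, hr, c', hc', rfl⟩ := hCR n hn
    refine ⟨r, hr, ?_⟩
    have e1 := Transfer.commute_iff_conj.1 (Transfer.mem_centralizer_singleton'.1 hc)
    have e2 := Transfer.commute_iff_conj.1 (Transfer.mem_centralizer_singleton'.1 hc'.2)
    calc r * c' * c * d * (r * c' * c)⁻¹ = r * (c' * (c * d * c⁻¹) * c'⁻¹) * r⁻¹ := by group
      _ = _ := by rw [e1, e2]
  let K : Subgroup G := closure {x | ∃ a b : G, x = a * d * a⁻¹ * (b * d * b⁻¹)}
  have hKR : K ≤ R := by
    refine (closure_le _).2 ?_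
    rintro _ ⟨a, b, rfl⟩
    obtain ⟨r, hr, e⟩ := key a
    obtain ⟨s, hs, e'⟩ := key b
    rw [e, e']
    have := mul_mem (mul_mem hr (conj_mem_of_mem_normalizer (hRd (mem_zpowers d)) (mul_mem (inv_mem hr) hs))) (inv_mem hs)
    rw [hi] at this
    simpa only [mul_assoc, SetLike.mem_coe, hi, inv_mul_cancel_left] using this
  haveI : K.Normal := by
    refine normal_of_cj_le fun g => ?_
    rw [MonoidHom.map_closure]
    refine closure_mono ?_
    rintro _ ⟨_, ⟨a, b, rfl⟩, rfl⟩
    exact ⟨g * a, g * b, by simp [mul_assoc]⟩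
  exact le_pCore (hR.isP.to_le hKR) (subset_closure ⟨1, g, by simp⟩)

/-- the subgroup generated by the products of two members of `B` -/
def Pr (B : Set G) : Subgroup G := closure {x | ∃ a ∈ B, ∃ b ∈ B, x = a * b}

omit [Finite G] in
theorem mul_mem_Pr {B : Set G} {a b : G} (ha : a ∈ B) (hb : b ∈ B) : a * b ∈ Pr B :=
  subset_closure ⟨a, ha, b, hb, rfl⟩

theorem mem_normalizer_Pr {B : Set G} {g : G} (h : ∀ a ∈ B, g * a * g⁻¹ ∈ B) : g ∈ normalizer (Pr B : Set G) := by
  refine mem_normalizer_of_conj_mem (cj_le_iff'.1 ?_)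
  rw [Pr, MonoidHom.map_closure]
  refine closure_mono ?_
  rintro _ ⟨_, ⟨a, ha, b, hb, rfl⟩, rfl⟩
  exact ⟨_, h a ha, _, h b hb, by simp [mul_assoc]⟩

/-- a commuting subset -/
theorem Pr_two (h : TT D) {B : Set G} (hB : B ⊆ D) (hc : ∀ a ∈ B, ∀ b ∈ B, Commute a b) : IsPGroup 2 (Pr B) := by
  refine isPGroup_of_forall fun x hx => ⟨1, ?_⟩
  have key : ∀ x ∈ closure B, x * x = 1 := by
    intro x hx
    have hcl : ∀ y ∈ closure B, ∀ z ∈ closure B, Commute y z := fun y hy z hz => by
      induction hy, hz using closure_induction₂ with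
      | mem a b ha hb => exact hc a ha b hb
      | one_left => exact Commute.one_left _
      | one_right => exact Commute.one_right _
      | mul_left _ _ _ _ _ _ h1 h2 => exact h1.mul_left h2
      | mul_right _ _ _ _ _ _ h1 h2 => exact h1.mul_right h2
      | inv_left _ _ _ _ h1 => exact h1.inv_left
      | inv_right _ _ _ _ h1 => exact h1.inv_right
    induction hx using closure_induction with
    | mem a ha => exact h.sq a (hB ha)
    | one => simp
    | mul a b ha hb h1 h2 =>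
      calc a * b * (a * b) = a * (b * a) * b := by group
        _ = a * a * (b * b) := by rw [(hcl b hb a ha).eq]; group
        _ = 1 := by rw [h1, h2, one_mul]
    | inv a _ h1 => rw [← mul_inv_rev, h1, inv_one]
  rw [pow_one, pow_two]
  refine key x ((closure_le _).2 ?_ hx)
  rintro _ ⟨a, ha, b, hb, rfl⟩
  exact mul_mem (subset_closure ha) (subset_closure hb)

/-- a subset of width one closed under its own conjugation -/
theorem Pr_three (h : TT D) {B : Set G} (hB : B ⊆ D) (hc : ∀ a ∈ B, ∀ b ∈ B, Commute a b → a = b)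
    (hj : ∀ a ∈ B, ∀ b ∈ B, a * b * a⁻¹ ∈ B) : IsPGroup 3 (Pr B) := by
  set H := closure B with hH
  have hj' : ∀ g ∈ H, ∀ b ∈ B, g * b * g⁻¹ ∈ B := by
    intro g hg
    induction hg using closure_induction'' with
    | one => simp
    | mem a ha => exact hj a ha
    | inv_mem a ha => rw [h.inv (hB ha)]; exact hj a ha
    | mul a b _ _ h1 h2 => intro x hx; simpa [mul_assoc] using h1 _ (h2 x hx)
  have : Pr B ≤ (pCore 3 H).map H.subtype := by
    refine (closure_le _).2 ?_
    rintro _ ⟨a, ha, b, hb, rfl⟩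
    have haH : a ∈ H := subset_closure ha
    have hbH : b ∈ H := subset_closure hb
    by_cases hab : Commute a b
    · rw [← hc a ha b hb hab, h.sq a (hB ha)]; exact one_mem _
    have := three_core (G := H) (d := ⟨a, haH⟩) (by rw [← Subgroup.orderOf_coe]; exact ord2 h (hB ha)) (fun g => by
      rw [← Subgroup.orderOf_coe]
      have hm := hj' g g.2 a ha
      by_cases hx : Commute a (g * a * (g : G)⁻¹)
      · refine ⟨0, ?_⟩
        simp only [coe_mul, coe_inv]
        rw [← hc a ha _ hm hx, h.sq a (hB ha)]; simp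
      · refine ⟨1, ?_⟩
        haveI : Fact (Nat.Prime 3) := ⟨by norm_num⟩
        simp only [coe_mul, coe_inv]
        exact orderOf_eq_prime (h.cube (hB ha) (hB hm) hx) fun e => hx (eq_of_mul_eq_one' h (hB ha) e ▸ Commute.refl _))
      ⟨a * b, mul_mem haH hbH⟩
    refine ⟨_, this, ?_⟩
    simp only [coe_subtype, coe_mul, coe_inv]
    rw [h.swap (hB ha) (hB hb) hab]
  exact ((isPGroup_pCore 3).map _).to_le this

/-- a conjugation invariant equivalence relation on `D` -/
structure Eqv (D : Set G) (r : G → G → Prop) : Prop where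
  mem : ∀ {a b}, r a b → a ∈ D
  refl : ∀ {a}, a ∈ D → r a a
  symm : ∀ {a b}, r a b → r b a
  trans : ∀ {a b c}, r a b → r b c → r a c
  conj : ∀ (g) {a b}, r a b → r (g * a * g⁻¹) (g * b * g⁻¹)

omit [Finite G] in
/-- the product of two equivalent members fixes every class -/
theorem Eqv.fix {r : G → G → Prop} (E : Eqv D r) (h : TT D) {a b c e : G} (hab : r a b) (hce : r c e) :
    r c (a * b * e * (a * b)⁻¹) := by
  have ha := E.mem hab
  have hb := E.mem (E.symm hab)
  have hc := E.mem hce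
  have cls : r a c → r c (a * b * e * (a * b)⁻¹) := fun hac => by
    have h1 := E.conj b (E.trans (E.symm hab) (E.trans hac hce))
    rw [mul_inv_cancel_right] at h1
    have h2 := E.conj a (E.trans hab h1)
    rw [mul_inv_cancel_right] at h2
    exact E.trans (E.symm hac) (by simpa only [mul_assoc, mul_inv_rev] using h2)
  have mix : ∀ {a b}, r a b → Commute a c → ¬ Commute b c → r b c := fun {a b} hab h1 h2 => by
    have hb := E.mem (E.symm hab)
    have h3 := E.conj c hab
    rw [conj_eq_iff.2 h1.symm] at h3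
    have h4 := E.conj b (E.trans (E.symm hab) h3)
    rw [mul_inv_cancel_right, h.inv hc, ← h.braid b hb c hc h2] at h4
    simpa only [mul_assoc, h.cancel hb, mul_inv_cancel, mul_one] using h4
  by_cases h1 : Commute a c <;> by_cases h2 : Commute b c
  · have := E.conj (a * b) hce
    rwa [conj_eq_iff.2 (h1.mul_left h2)] at this
  · exact cls (E.trans hab (mix hab h1 h2))
  · exact cls (mix (E.symm hab) h2 h1)
  · have h3 := E.conj (b * c)⁻¹ hce
    rw [show (b * c)⁻¹ * c * (b * c)⁻¹⁻¹ = b by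
      have := h.swap hb hc h2
      calc (b * c)⁻¹ * c * (b * c)⁻¹⁻¹ = (b * c)⁻¹ * ((b * c) * b * (b * c)⁻¹) * (b * c)⁻¹⁻¹ := by rw [this]
        _ = b := by group] at h3
    have h4 := E.conj (a * c) (E.trans hab h3)
    rw [h.swap ha hc h1] at h4
    simpa only [mul_assoc, mul_inv_rev, inv_inv, mul_inv_cancel_left, h.inv hb] using h4

/-- Baer–Suzuki for an invariant equivalence relation on `D` -/
theorem Eqv.core {r : G → G → Prop} (E : Eqv D r) (h : TT D) {p : ℕ} [Fact p.Prime]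
    (hP : ∀ c ∈ D, IsPGroup p (Pr {e | r c e})) {a b : G} (hab : r a b) : a * b ∈ pCore p G := by
  let K : Set G := {x | ∃ a b, r a b ∧ x = a * b}
  have hK : ∀ g : G, ∀ x ∈ K, g * x * g⁻¹ ∈ K := by
    rintro g _ ⟨a, b, h1, rfl⟩
    exact ⟨_, _, E.conj g h1, by simp [mul_assoc]⟩
  have hp := Transfer.baer_suzuki_set (p := p) hK (by
    rintro _ ⟨a, b, h1, rfl⟩ _ ⟨c, e, h2, rfl⟩
    have m1 : a * b ∈ Pr {e | r a e} := mul_mem_Pr (E.refl (E.mem h1)) h1
    have m2 : c * e ∈ Pr {e | r c e} := mul_mem_Pr (E.refl (E.mem h2)) h2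
    have hz : IsPGroup p (zpowers (a * b)) := (hP a (E.mem h1)).to_le (zpowers_le.2 m1)
    have hn : zpowers (a * b) ≤ normalizer (Pr {e | r c e} : Set G) :=
      zpowers_le.2 (mem_normalizer_Pr fun x hx => E.fix h h1 hx)
    refine (hz.to_sup_of_normal_right' (hP c (E.mem h2)) hn).to_le ((closure_le _).2 ?_)
    rintro x (rfl | rfl)
    · exact mem_sup_left (mem_zpowers _)
    · exact mem_sup_right m2)
  haveI : (closure K).Normal := by
    refine normal_of_cj_le fun g => ?_
    rw [MonoidHom.map_closure]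
    refine closure_mono ?_
    rintro _ ⟨x, hx, rfl⟩
    exact hK g x hx
  exact le_pCore hp (Subgroup.subset_closure ⟨a, b, hab, rfl⟩)

/-- same commuting set -/
def RV (D : Set G) (a b : G) : Prop := a ∈ D ∧ b ∈ D ∧ ∀ e ∈ D, Commute b e ↔ Commute a e

/-- same commuting partners -/
def RW (D : Set G) (a b : G) : Prop :=
  a ∈ D ∧ b ∈ D ∧ {y : G | y ∈ D ∧ y ≠ a ∧ Commute a y} = {y : G | y ∈ D ∧ y ≠ b ∧ Commute b y}

omit [Finite G] in
theorem RW.iff {a b : G} (h : RW D a b) {e : G} (he : e ∈ D) : (e ≠ a ∧ Commute a e) ↔ (e ≠ b ∧ Commute b e) := by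
  have := Set.ext_iff.1 h.2.2 e
  simpa only [Set.mem_setOf_eq, he, true_and] using this

omit [Finite G] in
theorem RW.of {a b : G} (ha : a ∈ D) (hb : b ∈ D) (h : ∀ e ∈ D, (e ≠ a ∧ Commute a e) ↔ (e ≠ b ∧ Commute b e)) :
    RW D a b := ⟨ha, hb, Set.ext fun e => and_congr_right (h e)⟩

omit [Finite G] in
theorem eqv_RV (h : TT D) : Eqv D (RV D) where
  mem h := h.1
  refl ha := ⟨ha, ha, fun _ _ => Iff.rfl⟩
  symm h := ⟨h.2.1, h.1, fun e he => (h.2.2 e he).symm⟩
  trans h h' := ⟨h.1, h'.2.1, fun e he => (h'.2.2 e he).trans (h.2.2 e he)⟩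
  conj g a b h' := ⟨h.conj g a h'.1, h.conj g b h'.2.1, fun e he => by
    rw [commute_conj_left, commute_conj_left]; exact h'.2.2 _ (h.conj _ _ he)⟩

omit [Finite G] in
theorem eqv_RW (h : TT D) : Eqv D (RW D) where
  mem h := h.1
  refl ha := ⟨ha, ha, rfl⟩
  symm h := ⟨h.2.1, h.1, h.2.2.symm⟩
  trans h h' := ⟨h.1, h'.2.1, h.2.2.trans h'.2.2⟩
  conj g a b h' := RW.of (h.conj g a h'.1) (h.conj g b h'.2.1) fun e he => by
    have e1 : ∀ x, e ≠ g * x * g⁻¹ ↔ g⁻¹ * e * g⁻¹⁻¹ ≠ x := fun x => by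
      refine not_congr ⟨fun e => by rw [e]; group, fun e => by rw [← e]; group⟩
    rw [commute_conj_left, commute_conj_left, e1, e1]; exact h'.iff (h.conj _ _ he)

omit [Finite G] in
theorem RV.commute {a b : G} (h : RV D a b) : Commute a b := (h.2.2 b h.2.1).1 (Commute.refl b)

omit [Finite G] in
theorem RW.eq {a b : G} (h : RW D a b) (hc : Commute a b) : a = b := by
  by_contra hne
  exact ((h.iff h.2.1).1 ⟨Ne.symm hne, hc⟩).1 rfl

theorem RV_iff (h : TT D) {a b : G} (ha : a ∈ D) (hb : b ∈ D) : RV D a b ↔ a * b ∈ pCore 2 G := by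
  have E := eqv_RV h
  refine ⟨E.core h fun c hc => Pr_two h (fun e he => he.2.1) fun x hx y hy => (E.trans (E.symm hx) hy).commute, fun hm => ?_⟩
  have key : ∀ {a b}, a ∈ D → b ∈ D → a * b ∈ pCore 2 G → ∀ e ∈ D, Commute a e → Commute b e := by
    intro a b ha hb hm e he hc
    refine commute_of_mem h (p := 2) (by norm_num) (isPGroup_pCore 2) hb he ?_
    rw [← QuotientGroup.eq_one_iff] at hm ⊢
    have e1 : ((a : G) : G ⧸ pCore 2 G) = b := by
      rw [← h.inv ha, QuotientGroup.mk_inv]; exact inv_eq_of_mul_eq_one_right hm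
    rw [QuotientGroup.mk_pow, QuotientGroup.mk_mul, ← e1, ← QuotientGroup.mk_mul, ← QuotientGroup.mk_pow,
      h.sq2 ha he hc, QuotientGroup.mk_one]
  have hm' : b * a ∈ pCore 2 G := by
    have := inv_mem hm
    rwa [mul_inv_rev, h.inv ha, h.inv hb] at this
  exact ⟨ha, hb, fun e he => ⟨key hb ha hm' e he, key ha hb hm e he⟩⟩

theorem RW_iff (h : TT D) {a b : G} (ha : a ∈ D) (hb : b ∈ D) : RW D a b ↔ a * b ∈ pCore 3 G := by
  haveI : Fact (Nat.Prime 3) := ⟨by norm_num⟩
  have E := eqv_RW h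
  refine ⟨E.core h fun c hc => Pr_three h (fun e he => he.2.1) (fun x hx y hy => (E.trans (E.symm hx) hy).eq)
    fun x hx y hy => E.trans hx ?_, fun hm => ?_⟩
  · have := E.conj x (E.trans (E.symm hx) hy)
    rwa [mul_inv_cancel_right] at this
  have key : ∀ {a b}, a ∈ D → b ∈ D → a * b ∈ pCore 3 G → ∀ e ∈ D, e ≠ a ∧ Commute a e → e ≠ b ∧ Commute b e := by
    intro a b ha hb hm e he ⟨hn, hc⟩
    refine ⟨?_, ?_⟩
    · rintro rfl
      exact hn (eq_of_mem h (p := 3) (by norm_num) (isPGroup_pCore 3) ha he hc hm).symm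
    by_contra hbe
    refine hn (eq_of_mem h (p := 3) (by norm_num) (isPGroup_pCore 3) ha he hc ?_).symm
    rw [← QuotientGroup.eq_one_iff] at hm ⊢
    have e1 : ((a : G) : G ⧸ pCore 3 G) = b := by
      rw [← h.inv ha, QuotientGroup.mk_inv]; exact inv_eq_of_mul_eq_one_right hm
    have e2 : ((a * e : G) : G ⧸ pCore 3 G) ^ 2 = 1 := by rw [← QuotientGroup.mk_pow, h.sq2 ha he hc, QuotientGroup.mk_one]
    have e3 : ((a * e : G) : G ⧸ pCore 3 G) ^ 3 = 1 := by
      rw [QuotientGroup.mk_mul, e1, ← QuotientGroup.mk_mul, ← QuotientGroup.mk_pow, h.cube hb he hbe, QuotientGroup.mk_one]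
    rwa [pow_succ, e2, one_mul] at e3
  have hm' : b * a ∈ pCore 3 G := by
    have := inv_mem hm
    rwa [mul_inv_rev, h.inv ha, h.inv hb] at this
  exact RW.of ha hb fun e he => ⟨key ha hb hm e he, key hb ha hm' e he⟩

omit [Finite G] in
theorem mul_conj_mem (h : TT D) {N : Subgroup G} [hN : N.Normal] {d g : G} (hd : d ∈ D) (hg : g ∈ N) :
    d * (g * d * g⁻¹) ∈ N := by
  have := mul_mem (hN.conj_mem g hg d) (inv_mem hg)
  rw [h.inv hd] at this
  simpa only [mul_assoc] using this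

theorem RW.orbit (h : TT D) {a b : G} (hab : RW D a b) : ∃ g ∈ pCore 3 G, b = g * a * g⁻¹ := by
  by_cases hc : Commute a b
  · exact ⟨1, one_mem _, by simp [hab.eq hc]⟩
  · exact ⟨a * b, (RW_iff h hab.1 hab.2.1).1 hab, (h.swap hab.1 hab.2.1 hc).symm⟩

omit [Finite G] in
theorem s4_hom (h : TT D) {x y b : G} (hx : x ∈ D) (hy : y ∈ D) (hb : b ∈ D) (hxy : Commute x y)
    (hbx : ¬ Commute b x) (hby : ¬ Commute b y) : ∃ φ : Equiv.Perm (Fin 4) →* G,
      φ (Equiv.swap 0 1) = x ∧ φ (Equiv.swap 1 2) = b ∧ φ (Equiv.swap 2 3) = y := by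
  obtain ⟨φ, hφ⟩ := PC.CoxA.hom (s := fun i => [x, b, y].getD i 1) (m := 3) ⟨fun i hi => by
    interval_cases i
    exacts [h.sq x hx, h.sq b hb, h.sq y hy], fun i hi => by
    have : i < 2 := by omega
    interval_cases i
    exacts [(h.braid b hb x hx hbx).symm, h.braid b hb y hy hby], fun i j h1 h2 => by
    obtain rfl : i = 0 := by omega
    obtain rfl : j = 2 := by omega
    exact hxy⟩
  exact ⟨φ, hφ 0 (by norm_num), hφ 1 (by norm_num), hφ 2 (by norm_num)⟩

omit [Finite G] in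
/-- in `S₄`: `(23)(14)` conjugates `(12)` to `(34)` -/
theorem s4_conj (h : TT D) {x y b : G} (hx : x ∈ D) (hy : y ∈ D) (hb : b ∈ D) (hxy : Commute x y)
    (hbx : ¬ Commute b x) (hby : ¬ Commute b y) :
    (x * b) * y * (x * b)⁻¹ = x * y * b * (x * y)⁻¹ ∧
      b * (x * y * b * (x * y)⁻¹) * x * (b * (x * y * b * (x * y)⁻¹))⁻¹ = y := by
  obtain ⟨φ, rfl, rfl, rfl⟩ := s4_hom h hx hy hb hxy hbx hby
  simp only [← map_mul, ← map_inv]
  exact ⟨congrArg φ (by decide), congrArg φ (by decide)⟩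

theorem exists_nc (h : IsThreeTranspositionClass D) (h2 : ∃ a ∈ D, ∃ b ∈ D, a ≠ b) {d : G} (hd : d ∈ D) :
    ∃ c ∈ D, ¬ Commute c d := by
  by_contra hn
  push Not at hn
  have hc : ∀ g : G, Commute g d := fun g => by
    have : closure D ≤ centralizer {d} := (closure_le _).2 fun c hc => Transfer.mem_centralizer_singleton'.2 (hn c hc)
    exact Transfer.mem_centralizer_singleton'.1 (this (h.2.2 ▸ mem_top g))
  obtain ⟨a, ha, b, hb, hab⟩ := h2
  obtain ⟨g, rfl⟩ := cls_conj h hd ha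
  obtain ⟨k, rfl⟩ := cls_conj h hd hb
  exact hab (by rw [conj_eq_iff.2 (hc g), conj_eq_iff.2 (hc k)])

theorem RV.orbit (h : TT D) {a b c : G} (hab : RV D a b) (hc : c ∈ D) (hca : ¬ Commute c a) :
    ∃ g ∈ pCore 2 G, b = g * a * g⁻¹ := by
  have hcb : ¬ Commute c b := fun e => hca ((hab.2.2 c hc).1 e.symm).symm
  obtain ⟨e1, e2⟩ := s4_conj h hab.1 hab.2.1 hc hab.commute hca hcb
  refine ⟨_, ?_, e2.symm⟩
  have := (eqv_RV h).conj (a * c) hab
  rw [h.swap hab.1 hc (fun e => hca e.symm), e1] at this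
  exact (RV_iff h this.1 this.2.1).1 this

omit [Finite G] in
theorem V_or_W (h : TT D) {d : G} : (∀ v, RV D d v → v = d) ∨ ∀ w, RW D d w → w = d := by
  by_contra hn
  push Not at hn
  obtain ⟨⟨v, hv, hvd⟩, w, hw, hwd⟩ := hn
  have h1 := (hw.iff hv.2.1).1 ⟨hvd, hv.commute⟩
  exact hwd (hw.eq ((hv.2.2 w hw.2.1).1 h1.2.symm)).symm

/-- two members with central product are equal -/
theorem eq_of_central (h : IsThreeTranspositionClass D) {a b : G} (ha : a ∈ D) (hb : b ∈ D)
    (hz : a * b ∈ center G) : a = b := by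
  by_contra hne
  have t := tt_cls h
  obtain ⟨c, hc, hca⟩ := exists_nc h ⟨a, ha, b, hb, hne⟩ ha
  have hz' : ∀ g, Commute (a * b) g := fun g => (mem_center_iff.1 hz g).symm
  have hcb : ¬ Commute c b := fun e => hca (by
    have := (hz' c).symm.mul_right e
    rwa [mul_assoc, t.sq b hb, mul_one] at this)
  exact t.s4_ne ha hb hc hne hca hcb (conj_eq_iff.2 (hz' c))

theorem le_center_iff (hg : closure D = ⊤) {N : Subgroup G} : N ≤ center G ↔ ∀ g ∈ N, ∀ d ∈ D, Commute g d := by
  refine ⟨fun h g hg d _ => (mem_center_iff.1 (h hg) d).symm, fun h g hN => mem_center_iff.2 fun x => ?_⟩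
  have : closure D ≤ centralizer {g} := (closure_le _).2 fun c hc => Transfer.mem_centralizer_singleton'.2 (h g hN c hc).symm
  exact Transfer.mem_centralizer_singleton'.1 (this (hg ▸ mem_top x))

/-- a member of `D` normalizing a `p`-group, `p > 3`, centralizes it -/
theorem cent_of_big (h : TT D) {p : ℕ} (hp : p.Prime) (hp3 : 3 < p) {P : Subgroup G} (hP : IsPGroup p P) {d : G}
    (hd : d ∈ D) (hn : d ∈ normalizer (P : Set G)) {x : G} (hx : x ∈ P) : Commute d x := by
  have hm : d * (x * d * x⁻¹) ∈ P := by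
    have := mul_mem (conj_mem_of_mem_normalizer hn hx) (inv_mem hx)
    rw [h.inv hd] at this; simpa only [mul_assoc] using this
  have c3 : (3 : ℕ).Coprime p := (Nat.coprime_primes (by norm_num) hp).2 (by omega)
  have c2 : (2 : ℕ).Coprime p := (Nat.coprime_primes (by norm_num) hp).2 (by omega)
  have := eq_of_mem h c2 hP hd (h.conj x d hd) (commute_of_mem h c3 hP hd (h.conj x d hd) (pow_mem hm 2)) hm
  exact (conj_eq_iff.1 this.symm).symm

theorem two_central_iff (h : IsThreeTranspositionClass D) {d : G} (hd : d ∈ D) :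
    pCore 2 G ≤ center G ↔ ∀ v, RV D d v → v = d := by
  have t := tt_cls h
  refine ⟨fun hc v hv => (eq_of_central h hv.1 hv.2.1 (hc ((RV_iff t hv.1 hv.2.1).1 hv))).symm, fun hv => ?_⟩
  refine (le_center_iff h.2.2).2 fun g hg e he => ?_
  obtain ⟨k, rfl⟩ := cls_conj h hd he
  have hg' := (inferInstance : (pCore 2 G).Normal).conj_mem g hg k⁻¹
  have := hv _ ((RV_iff t hd (t.conj _ d hd)).2 (mul_conj_mem t hd hg'))
  exact (commute_conj_left.2 (conj_eq_iff.1 this).symm).symm

theorem three_central_iff (h : IsThreeTranspositionClass D) {d : G} (hd : d ∈ D) :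
    pCore 3 G ≤ center G ↔ ∀ v, RW D d v → v = d := by
  have t := tt_cls h
  refine ⟨fun hc v hv => (eq_of_central h hv.1 hv.2.1 (hc ((RW_iff t hv.1 hv.2.1).1 hv))).symm, fun hv => ?_⟩
  refine (le_center_iff h.2.2).2 fun g hg e he => ?_
  obtain ⟨k, rfl⟩ := cls_conj h hd he
  have hg' := (inferInstance : (pCore 3 G).Normal).conj_mem g hg k⁻¹
  have := hv _ ((RW_iff t hd (t.conj _ d hd)).2 (mul_conj_mem t hd hg'))
  exact (commute_conj_left.2 (conj_eq_iff.1 this).symm).symm

end Cfsg.Agent.Tr3
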