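import Cfsg.Agent.Lib.Tr3.Rank
import Cfsg.Agent.Lib.Fischer.Orth
import Cfsg.Agent.Lib.Classical.SpUE

/-! Classical examples of 3-transposition classes. -/

set_option autoImplicit false
set_option linter.unusedSectionVars false
set_option linter.unusedVariables false

namespace Cfsg.Agent.Tr3

open Cfsg.Agent.Classical Cfsg.Agent.Fi Module

theorem cls_equiv {G H : Type*} [Group G] [Group H] (e : G ≃* H) {D : Set G} {T : Set H}
    (h : ∀ g, g ∈ D ↔ e g ∈ T) (hT : IsThreeTranspositionClass T) : IsThreeTranspositionClass D := by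
  have t := tt_cls hT
  have t' : TT D := ⟨fun x hx => e.injective (by simpa using t.sq _ ((h x).1 hx)),
    fun x hx h1 => t.ne _ ((h x).1 hx) (by simp [h1]),
    fun g x hx => (h _).2 (by simpa using t.conj (e g) _ ((h x).1 hx)),
    fun x hx y hy hc => e.injective (by
      simpa using t.braid _ ((h x).1 hx) _ ((h y).1 hy) fun h' => hc (e.injective (by simpa using h'.eq)))⟩
  refine cls_of ⟨tt_set t', t'.conj, closure_eq_top_of_equiv e h hT.2.2⟩ ?_ fun a ha b hb => ?_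
  · obtain ⟨d, hd, -⟩ := hT.2.1
    exact ⟨e.symm d, (h _).2 (by simpa using hd)⟩
  · obtain ⟨g, hg⟩ := cls_conj hT ((h a).1 ha) ((h b).1 hb)
    exact ⟨e.symm g, e.injective (by simpa using hg)⟩

section
variable {F : Type*} [Field F] {K : Kind F} {V : Type*} [AddCommGroup V] [Module F V] {Φ : Form K V}

theorem qrefl_smul' {l c : F} (hl : l * K.σ l = 1) {w : V} (h) (h') :
    Φ.qrefl (l • w) c h' = Φ.qrefl w c h := by
  ext x
  rw [Φ.qrefl_apply, Φ.qrefl_apply, Φ.B_smul_right, smul_smul]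
  congr 2
  linear_combination (c * Φ.B x w) * hl

theorem qrefl_congr' {c : F} {w w' : V} (e : w = w') (h) (h') : Φ.qrefl w c h = Φ.qrefl w' c h' := by
  subst e; rfl

/-- the generalised reflections with centre in `S` and a fixed parameter -/
def qSet (Φ : Form K V) (S : Set V) (c : F) : Set (V ≃ₗ[F] V) := {g | ∃ v ∈ S, ∃ h, g = Φ.qrefl v c h}

theorem cls_qSet (hΦ : Φ.Nondeg) {S : Set V} {c : F} {H : Subgroup (V ≃ₗ[F] V)} (hH : H ≤ Φ.Isom)
    (hc : c ≠ 0) (h0 : ∀ v ∈ S, v ≠ 0) (h1 : ∀ v ∈ S, 2 + c * Φ.B v v = 0)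
    (h2 : ∀ u ∈ S, ∀ v ∈ S, Φ.B v u ≠ 0 →
      c * Φ.B v u * (c * Φ.B u v) = 1 ∧ c * Φ.B u v * K.σ (c * Φ.B u v) = 1)
    (h3 : Subgroup.closure (qSet Φ S c) = H) (h4 : ∀ g ∈ H, ∀ v ∈ S, g v ∈ S)
    (h5 : ∀ u ∈ S, ∀ v ∈ S, ∃ g ∈ H, ∃ l : F, l * K.σ l = 1 ∧ g u = l • v)
    (h6 : (qSet Φ S c).Nonempty) : IsThreeTranspositionClass {g : H | g.1 ∈ qSet Φ S c} := by
  have sq : ∀ v ∈ S, ∀ h, Φ.qrefl v c h * Φ.qrefl v c h = 1 := fun v hv h => by
    ext x
    rw [LinearEquiv.mul_apply, Φ.qrefl_apply, Φ.qrefl_apply, map_add, LinearMap.add_apply, Φ.B_smul_left,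
      add_assoc, ← add_smul]
    have : c * Φ.B x v + c * (Φ.B x v + c * Φ.B x v * Φ.B v v) = 0 := by
      linear_combination (c * Φ.B x v) * h1 v hv
    rw [this]; simp
  have t : TT {g : H | g.1 ∈ qSet Φ S c} := by
    refine ⟨?_, ?_, ?_, ?_⟩
    · rintro ⟨_, hg⟩ ⟨v, hv, h, rfl⟩
      exact Subtype.ext (sq v hv h)
    · rintro ⟨_, hg⟩ ⟨v, hv, h, rfl⟩ e
      obtain ⟨x, hx⟩ := hΦ.exists_ne (h0 v hv)
      have := DFunLike.congr_fun (congrArg Subtype.val e) x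
      simp [Φ.qrefl_apply, hc, hx, h0 v hv] at this
    · rintro g ⟨_, hg⟩ ⟨v, hv, h, rfl⟩
      exact ⟨g.1 v, h4 _ g.2 v hv, _, Φ.qrefl_conj (hH g.2) v c h⟩
    · rintro ⟨_, hg⟩ ⟨u, hu, h, rfl⟩ ⟨_, hg'⟩ ⟨v, hv, h', rfl⟩ hn
      apply Subtype.ext
      have e1 := Φ.qrefl_conj (Φ.qrefl_mem u c h) v c h'
      have e2 := Φ.qrefl_conj (Φ.qrefl_mem v c h') u c h
      rw [inv_eq_of_mul_eq_one_right (sq u hu h)] at e1
      rw [inv_eq_of_mul_eq_one_right (sq v hv h')] at e2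
      by_cases hb : Φ.B v u = 0
      · exfalso; apply hn
        apply Subtype.ext
        have : Φ.qrefl u c h v = v := by rw [Φ.qrefl_apply, hb]; simp
        rw [qrefl_congr' this _ h'] at e1
        have := congrArg (· * Φ.qrefl u c h) e1
        simp only [mul_assoc, sq u hu h, mul_one] at this
        exact this
      · obtain ⟨a1, a2⟩ := h2 u hu v hv hb
        show Φ.qrefl u c h * Φ.qrefl v c h' * Φ.qrefl u c h = Φ.qrefl v c h' * Φ.qrefl u c h * Φ.qrefl v c h'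
        rw [e1, e2]
        have : Φ.qrefl v c h' u = (c * Φ.B u v) • Φ.qrefl u c h v := by
          rw [Φ.qrefl_apply, Φ.qrefl_apply, smul_add, smul_smul, mul_comm (c * Φ.B u v), a1, one_smul, add_comm]
        rw [qrefl_congr' this _ (this ▸ by rw [(Φ.qrefl_mem v c h').2]; exact h), qrefl_smul' a2]
  refine cls_of ⟨tt_set t, t.conj, Form.closure_preimage_top h3⟩ ?_ ?_
  · obtain ⟨g, hg⟩ := h6
    exact ⟨⟨g, h3 ▸ Subgroup.subset_closure hg⟩, hg⟩
  · rintro ⟨_, hg⟩ ⟨u, hu, h, rfl⟩ ⟨_, hg'⟩ ⟨v, hv, h', rfl⟩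
    obtain ⟨g, hg, l, hl, e⟩ := h5 u hu v hv
    refine ⟨⟨g, hg⟩, Subtype.ext ?_⟩
    show g * Φ.qrefl u c h * g⁻¹ = Φ.qrefl v c h'
    rw [Φ.qrefl_conj (hH hg), qrefl_congr' e _ (e ▸ by rw [(hH hg).2]; exact h), qrefl_smul' hl]

variable [FiniteDimensional F V]

theorem rank_one_iff (hΦ : Φ.Nondeg) {g : V ≃ₗ[F] V} (hg : g ∈ Φ.Isom) :
    finrank F (LinearMap.range ((g : V →ₗ[F] V) - LinearMap.id)) = 1 ↔
      ∃ d c h, d ≠ 0 ∧ c ≠ 0 ∧ g = Φ.qrefl d c h := by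
  constructor
  · intro h
    obtain ⟨⟨d, hd⟩, hd0, hs⟩ := finrank_eq_one_iff'.1 h
    have hd0' : d ≠ 0 := fun e => hd0 (Subtype.ext e)
    have hs' : ∀ x, ∃ a : F, g x = x + a • d := fun x => by
      obtain ⟨a, ha⟩ := hs ⟨g x - x, x, rfl⟩
      exact ⟨a, by rw [show a • d = g x - x from congrArg Subtype.val ha]; abel⟩
    obtain ⟨y, hy⟩ := hd
    have hy' : g y = y + d := by rw [← hy]; simp
    obtain ⟨x0, hx0⟩ := hΦ.exists_ne hd0'
    have k : ∀ x, g x = x → Φ.B x d = 0 := fun x hx => by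
      have := hg.1 x y
      rw [hx, hy', map_add] at this
      simpa using this
    obtain ⟨a, ha⟩ := hs' x0
    have ha0 : a ≠ 0 := fun e => hx0 (k x0 (by simpa [e] using ha))
    have k2 : ∀ x, g x = x + (a / Φ.B x0 d * Φ.B x d) • d := fun x => by
      obtain ⟨b, hb⟩ := hs' x
      have := k (x - (b / a) • x0) (by
        rw [map_sub, map_smul, hb, ha, smul_add, smul_smul, div_mul_cancel₀ _ ha0]; abel)
      rw [map_sub, LinearMap.sub_apply, Φ.B_smul_left, sub_eq_zero] at this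
      rw [hb, this]; congr 2; field_simp
    have k3 : a / Φ.B x0 d * K.σ (a / Φ.B x0 d) * Φ.N d + K.T (K.σ (a / Φ.B x0 d)) = 0 := by
      have h1 := hg.2 ((Φ.B x0 d)⁻¹ • x0)
      rw [k2, Φ.B_smul_left, inv_mul_cancel₀ hx0, mul_one, Φ.N_add, Φ.N_smul (a / _), Φ.B_smul_right,
        Φ.B_smul_left, inv_mul_cancel₀ hx0, mul_one] at h1
      linear_combination h1
    exact ⟨d, _, k3, hd0', div_ne_zero ha0 hx0, LinearEquiv.ext fun x => by rw [k2, Φ.qrefl_apply]⟩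
  · rintro ⟨d, c, h, hd, hc, rfl⟩
    obtain ⟨x0, hx0⟩ := hΦ.exists_ne hd
    have : LinearMap.range ((Φ.qrefl d c h : V →ₗ[F] V) - LinearMap.id) = F ∙ d := by
      apply le_antisymm
      · rintro _ ⟨x, rfl⟩
        simp only [LinearMap.sub_apply, LinearEquiv.coe_coe, Φ.qrefl_apply, LinearMap.id_apply,
          add_sub_cancel_left]
        exact Submodule.smul_mem _ _ (Submodule.mem_span_singleton_self d)
      · rw [Submodule.span_singleton_le_iff_mem]
        refine ⟨(c * Φ.B x0 d)⁻¹ • x0, ?_⟩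
        simp only [LinearMap.sub_apply, LinearEquiv.coe_coe, Φ.qrefl_apply, LinearMap.id_apply,
          add_sub_cancel_left, Φ.B_smul_left]
        rw [show c * ((c * Φ.B x0 d)⁻¹ * Φ.B x0 d) = 1 by field_simp, one_smul]
    rw [this, finrank_span_singleton hd]

end

theorem rank_sub_one {F : Type*} [Field F] {ι : Type} [Fintype ι] [DecidableEq ι] {M : Matrix ι ι F}
    {g : (ι → F) ≃ₗ[F] (ι → F)} (h : ∀ v, g v = M.mulVec v) :
    (M - 1).rank = finrank F (LinearMap.range ((g : (ι → F) →ₗ[F] (ι → F)) - LinearMap.id)) := by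
  rw [Matrix.rank, show (M - 1).mulVecLin = (g : (ι → F) →ₗ[F] (ι → F)) - LinearMap.id from
    LinearMap.ext fun v => by simp [h, Matrix.sub_mulVec]]

theorem zmod2_one {a : ZMod 2} (h : a ≠ 0) : a = 1 := by revert a; decide

theorem cls_orth2 {V : Type*} [AddCommGroup V] [Module (ZMod 2) V] [FiniteDimensional (ZMod 2) V]
    {Φ : Form (Kind.orth (ZMod 2)) V} (hΦ : Φ.Nondeg) (hn : 5 ≤ finrank (ZMod 2) V) :
    IsThreeTranspositionClass {g : Φ.Isom |
      finrank (ZMod 2) (LinearMap.range ((g.1 : V →ₗ[ZMod 2] V) - LinearMap.id)) = 1} := by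
  have h0 : ∀ v, Φ.N v = 1 → v ≠ 0 := fun v hv e => by simp [e] at hv
  have hc : ∀ v, Φ.N v = 1 → 1 * (Kind.orth (ZMod 2)).σ 1 * Φ.N v + (Kind.orth (ZMod 2)).T
      ((Kind.orth (ZMod 2)).σ 1) = 0 := fun v hv => by simp [hv]; decide
  have := cls_qSet (S := {v | Φ.N v = 1}) (c := 1) hΦ le_rfl one_ne_zero h0
    (fun v hv => by rw [Φ.orth_B_self, show Φ.N v = 1 from hv]; decide)
    (fun u hu v hv h => by
      rw [Φ.orth_symm u v, zmod2_one h]; simp)
    (by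
      rw [← (Form.good_of_finrank hΦ (by omega)).closure_reflSet hΦ]
      congr 1; ext g; constructor
      · rintro ⟨v, hv, h, rfl⟩
        have hv' : Φ.N v = 1 := hv
        exact ⟨v, hv' ▸ one_ne_zero, LinearEquiv.ext fun x => by
          rw [Φ.qrefl_apply, Φ.refl_apply, hv', sub_eq_add_neg, ← neg_smul, ZMod.neg_eq_self_mod_two]; simp⟩
      · rintro ⟨v, hv, rfl⟩
        have hv' := zmod2_one hv
        exact ⟨v, hv', hc v hv', LinearEquiv.ext fun x => by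
          rw [Φ.qrefl_apply, Φ.refl_apply, hv', sub_eq_add_neg, ← neg_smul, ZMod.neg_eq_self_mod_two]; simp⟩)
    (fun g hg v hv => (hg.2 v).trans hv)
    (fun u hu v hv => by
      obtain ⟨g, hg, e⟩ := hΦ.exists_isom_vec (h0 u hu) (h0 v hv) (hu.trans hv.symm)
      exact ⟨g, hg, 1, by simp, by simpa using e⟩)
    (by
      obtain ⟨v, hv⟩ := orth_represents hΦ (by omega) 1
      exact ⟨_, v, hv, hc v hv, rfl⟩)
  convert this using 2
  ext g
  rw [rank_one_iff hΦ g.2]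
  constructor
  · rintro ⟨d, c, h, hd, hc, e⟩
    obtain rfl := zmod2_one hc
    refine ⟨d, zmod2_one fun h1 => ?_, h, e⟩
    simp [h1] at h
  · rintro ⟨d, hd, h, e⟩
    exact ⟨d, 1, h, h0 d hd, one_ne_zero, e⟩

theorem cls_symp2 {V : Type*} [AddCommGroup V] [Module (ZMod 2) V] [FiniteDimensional (ZMod 2) V]
    {Φ : Form (Kind.symp (ZMod 2)) V} (hΦ : Φ.Nondeg) (hn : finrank (ZMod 2) V ≠ 0) :
    IsThreeTranspositionClass {g : Φ.Isom |
      finrank (ZMod 2) (LinearMap.range ((g.1 : V →ₗ[ZMod 2] V) - LinearMap.id)) = 1} := by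
  have hN : ∀ v, Φ.N v = 0 := fun v => by obtain ⟨a, ha⟩ := Φ.N_range v; simpa using ha.symm
  have hc : ∀ v c, c * (Kind.symp (ZMod 2)).σ c * Φ.N v + (Kind.symp (ZMod 2)).T
      ((Kind.symp (ZMod 2)).σ c) = 0 := fun v hv => by simp [hN]
  have := cls_qSet (S := {v | v ≠ 0}) (c := 1) hΦ le_rfl one_ne_zero (fun _ h => h)
    (fun v hv => by rw [Φ.B_self]; simp; decide)
    (fun u hu v hv h => by
      have h' : Φ.B u v ≠ 0 := fun e => h (Φ.B_symm_zero e)
      rw [zmod2_one h, zmod2_one h']; simp)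
    (by
      rw [← Form.symp_closure_transvSet hΦ]
      apply le_antisymm
      · apply Subgroup.closure_mono
        rintro _ ⟨v, hv, h, rfl⟩
        exact ⟨v, 1, h, hN v, rfl⟩
      · rw [Subgroup.closure_le]
        rintro _ ⟨v, c, h, -, rfl⟩
        by_cases h1 : v = 0 ∨ c = 0
        · have : Φ.qrefl v c h = 1 := LinearEquiv.ext fun x => by
            rcases h1 with e | e <;> simp [Φ.qrefl_apply, e]
          rw [this]; exact one_mem _
        · push Not at h1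
          obtain rfl := zmod2_one h1.2
          exact Subgroup.subset_closure ⟨v, h1.1, h, rfl⟩)
    (fun g hg v hv => by simpa using hv)
    (fun u hu v hv => by
      obtain ⟨g, hg, e⟩ := hΦ.exists_isom_vec hu hv ((hN u).trans (hN v).symm)
      exact ⟨g, hg, 1, by simp, by simpa using e⟩)
    (by
      have : Nontrivial V := Module.nontrivial_of_finrank_pos (R := ZMod 2) (by omega)
      obtain ⟨v, hv⟩ := exists_ne (0 : V)
      exact ⟨_, v, hv, hc v 1, rfl⟩)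
  convert this using 2
  ext g
  rw [rank_one_iff hΦ g.2]
  constructor
  · rintro ⟨d, c, h, hd, hc, e⟩
    obtain rfl := zmod2_one hc
    exact ⟨d, hd, h, e⟩
  · rintro ⟨d, hd, h, e⟩
    exact ⟨d, 1, h, hd, one_ne_zero, e⟩

theorem cls_unit4 {F : Type*} [Field F] [Fintype F] (hF : Fintype.card F = 2 ^ 2) {V : Type*}
    [AddCommGroup V] [Module F V] [FiniteDimensional F V]
    {Φ : Form (unitKind hF) V} (hΦ : Φ.Nondeg) (hn : 4 ≤ finrank F V) :
    IsThreeTranspositionClass {g : Φ.SIsom |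
      finrank F (LinearMap.range ((g.1 : V →ₗ[F] V) - LinearMap.id)) = 1} := by
  have h2 : (2 : F) = 0 := by
    obtain ⟨p, k, hp, hc, e, hk⟩ := exists_pow_of_card_sq hF
    have : p = 2 := (Nat.prime_dvd_prime_iff_eq hp Nat.prime_two).1 (e ▸ dvd_pow_self p hk.ne')
    subst this
    exact_mod_cast CharP.cast_eq_zero F 2
  have h3 : ∀ c : F, c ≠ 0 → c * (unitKind hF).σ c = 1 := fun c hc => by
    have := FiniteField.pow_card_sub_one_eq_one c hc
    rw [hF] at this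
    simp only [Kind.unit_σ, frobq_apply]
    linear_combination this
  have h4 : ∀ (d : V) (c : F), Φ.N d = 0 → c ≠ 0 → c * (unitKind hF).σ c * Φ.N d + (unitKind hF).T
      ((unitKind hF).σ c) = 0 → c = 1 := fun d c hd hc h => by
    rw [hd, Kind.unit_T, Kind.unit_σ, frobq_frobq, frobq_apply] at h
    have : c * (c - 1) = 0 := by linear_combination h - c * h2
    exact sub_eq_zero.1 ((mul_eq_zero.1 this).resolve_left hc)
  have hc : ∀ v, Φ.N v = 0 → 1 * (unitKind hF).σ 1 * Φ.N v + (unitKind hF).T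
      ((unitKind hF).σ 1) = 0 := fun v hv => by
    rw [hv, Kind.unit_T]; simp only [map_one]; linear_combination h2
  have hE := unit_E_eq hF hΦ
  have hp := unit_perfect hF hΦ (by omega) (by omega)
  have hsub : Φ.transvSet ⊆ Φ.SIsom := hE ▸ Φ.transvSet_subset_E
  obtain ⟨e, f, hh⟩ := unit_exists_hyp (frobq_ne_id hF) hΦ (by omega)
  have hR := Form.unit_rich (frobq_ne_id hF) Φ
  have key : Subgroup.closure Φ.transvSet = Φ.SIsom := by
    rw [← hE] at hp hsub ⊢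
    rcases hR.normal_E hΦ hh hp ((Subgroup.closure Φ.transvSet).subgroupOf Φ.E)
      ⟨fun x hx g => Form.closure_conj_mem (Φ.transvSet_conj (Φ.E_le g.2)) hx⟩ with h | h
    · obtain ⟨d, hd, hd'⟩ := exists_skew _ (frobq_ne_id hF) (frobq_frobq hF)
      have h1 : Φ.IsEich e 0 d := ⟨hh.he, by simp, by rw [Kind.unit_T, hd']; simp⟩
      obtain ⟨h', h2⟩ := Φ.eich_zero_eq_qrefl h1
      obtain ⟨c, hc⟩ := (hR.rich0.mem_center_iff hΦ hh le_rfl Φ.E_le (g := ⟨_, Φ.eich_mem_E _ _ _ h1⟩)).1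
        (h (Subgroup.subset_closure ⟨_, _, _, hh.he, h2⟩))
      have h4 := congrArg (fun x => Φ.B x f) (hc f)
      simp only [hh.eich_f (zero_mem _), map_sub, LinearMap.sub_apply, Φ.B_smul_left] at h4
      rw [hh.Bff, hh.hef] at h4
      simp [hd] at h4
    · exact le_antisymm ((Subgroup.closure_le _).2 hsub) (Subgroup.subgroupOf_eq_top.1 h)
  have := cls_qSet (S := {v | Φ.Sing v}) (c := 1) (H := Φ.SIsom) hΦ inf_le_left one_ne_zero (fun _ h => h.1)
    (fun v hv => by rw [Φ.B_self_of_N hv.2, h2]; simp)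
    (fun u hu v hv h => by
      have h' : Φ.B u v ≠ 0 := fun e => h (Φ.B_symm_zero e)
      rw [one_mul, one_mul, Φ.symm u v, Kind.unit_ε, one_mul, mul_comm, and_self]
      exact h3 _ h')
    (by
      rw [← key]
      apply le_antisymm
      · apply Subgroup.closure_mono
        rintro _ ⟨v, hv, h, rfl⟩
        exact ⟨v, 1, h, hv.2, rfl⟩
      · rw [Subgroup.closure_le]
        rintro _ ⟨v, c, h, hv, rfl⟩
        by_cases h1 : v = 0 ∨ c = 0
        · have : Φ.qrefl v c h = 1 := LinearEquiv.ext fun x => by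
            rcases h1 with e | e <;> simp [Φ.qrefl_apply, e]
          rw [this]; exact one_mem _
        · push Not at h1
          obtain rfl := h4 v c hv h1.2 h
          exact Subgroup.subset_closure ⟨v, ⟨h1.1, hv⟩, h, rfl⟩)
    (fun g hg v hv => Form.Sing.map hv hg.1)
    (fun u hu v hv => by
      obtain ⟨g, hg, c, hc, e⟩ := hR.rich0.trans hΦ hu hv
      exact ⟨g, hE ▸ hg, c, h3 c hc, e⟩)
    ⟨_, e, hh.sing_e, hc e hh.he, rfl⟩
  convert this using 2
  ext g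
  rw [rank_one_iff hΦ g.2.1]
  constructor
  · rintro ⟨d, c, h, hd, hc, e⟩
    have h5 := Φ.det_qrefl d c h
    rw [← e, (Form.mem_SIsom.1 g.2).2, Φ.B_self] at h5
    have h6 : Φ.N d = 0 := by simpa [hc] using h5
    obtain rfl := h4 d c h6 hc h
    exact ⟨d, ⟨hd, h6⟩, h, e⟩
  · rintro ⟨d, hd, h, e⟩
    exact ⟨d, 1, h, hd.1, one_ne_zero, e⟩

section
variable {F : Type*} [Field F] [Finite F] {V : Type*} [AddCommGroup V] [Module F V] [FiniteDimensional F V]
  {Φ : Form (Kind.orth F) V}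

theorem E_trans (hΦ : Φ.Nondeg) (h2 : (2 : F) ≠ 0) (hn : 3 ≤ finrank F V) {u v : V} (hu : Φ.N u ≠ 0)
    (huv : Φ.N u = Φ.N v) : ∃ g ∈ Φ.E, g u = v := by
  have hG := Form.good_of_two hΦ h2
  have hu0 : u ≠ 0 := fun e => hu (by simp [e])
  obtain ⟨g, hg, e⟩ := hΦ.exists_isom_vec hu0 (fun e => hu (by simp [huv, e])) huv
  have hU : (Φ.restrict (F ∙ u)).Nondeg := by
    rw [Form.restrict_nondeg_iff, eq_bot_iff]
    rintro x ⟨hx, hx'⟩
    obtain ⟨a, rfl⟩ := Submodule.mem_span_singleton.1 hx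
    have := Φ.mem_perp_singleton.1 hx'
    rw [Φ.B_smul_left, Φ.orth_B_self] at this
    simp [(mul_eq_zero.1 this).resolve_right (mul_ne_zero h2 hu)]
  have hd : 2 ≤ finrank F (Φ.perp (F ∙ u)) := by
    have := hΦ.finrank_perp (F ∙ u)
    rw [finrank_span_singleton hu0] at this; omega
  obtain ⟨a, ha⟩ := Form.exists_not_isSquare h2
  have ha0 : a ≠ 0 := fun e => ha (e ▸ IsSquare.zero)
  obtain ⟨⟨w1, hw1⟩, e1⟩ := orth_represents (hΦ.restrict_perp hU) hd 1
  obtain ⟨⟨w2, hw2⟩, e2⟩ := orth_represents (hΦ.restrict_perp hU) hd a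
  have e1' : Φ.N w1 = 1 := e1
  have e2' : Φ.N w2 = a := e2
  have n1 : Φ.N w1 ≠ 0 := e1' ▸ one_ne_zero
  have n2 : Φ.N w2 ≠ 0 := e2' ▸ ha0
  have s1 : hG.spin hΦ (Φ.reflI w1 n1) = 1 := by
    rw [hG.spin_reflI, sqSign_eq_one_iff]; simp [e1']
  have s2 : hG.spin hΦ (Φ.reflI w2 n2) = -1 := by
    rw [hG.spin_reflI, sqSign_eq_neg_one_iff]; simpa [e2'] using ha
  have f1 : Φ.refl w1 n1 u = u := Φ.refl_of_perp _ _ (Φ.B_symm_zero (Φ.mem_perp_singleton.1 hw1))
  have f2 : Φ.refl w2 n2 u = u := Φ.refl_of_perp _ _ (Φ.B_symm_zero (Φ.mem_perp_singleton.1 hw2))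
  have k : ∀ x : Φ.Isom, hG.dick hΦ x = 1 → hG.spin hΦ x = 1 → x.1 u = v → ∃ g ∈ Φ.E, g u = v :=
    fun x a b c => ⟨x.1, (hG.mem_E_iff hΦ hn).2 ((hG.mem_commutator_iff hΦ).2 ⟨a, b⟩), c⟩
  rcases Int.units_eq_one_or (hG.dick hΦ ⟨g, hg⟩) with d | d <;>
  rcases Int.units_eq_one_or (hG.spin hΦ ⟨g, hg⟩) with s | s
  · exact k _ d s e
  · exact k (⟨g, hg⟩ * Φ.reflI w1 n1 * Φ.reflI w2 n2) (by simp [d]) (by simp only [map_mul, s, s1, s2]; simp)
      (by simp [f1, f2, e])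
  · exact k (⟨g, hg⟩ * Φ.reflI w1 n1) (by simp [d]) (by simp only [map_mul, s, s1]; simp) (by simp [f1, e])
  · exact k (⟨g, hg⟩ * Φ.reflI w2 n2) (by simp [d]) (by simp only [map_mul, s, s2]; simp) (by simp [f2, e])

end

theorem zmod3_sq {a : ZMod 3} (h : a ≠ 0) : a * a = 1 := by revert a; decide

theorem cls_orth3 {V : Type*} [AddCommGroup V] [Module (ZMod 3) V] [FiniteDimensional (ZMod 3) V]
    {Φ : Form (Kind.orth (ZMod 3)) V} (hΦ : Φ.Nondeg) (hn : 5 ≤ finrank (ZMod 3) V) {c : ZMod 3}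
    (hc : c ≠ 0) : IsThreeTranspositionClass {g : Rc Φ c | g.1 ∈ rSet Φ c} := by
  have e : rSet Φ c = qSet Φ {v | Φ.N v = c} (-c⁻¹) := by
    ext g; constructor
    · rintro ⟨v, h, rfl, rfl⟩; exact ⟨v, rfl, _, rfl⟩
    · rintro ⟨v, rfl, h, rfl⟩; exact ⟨v, hc, rfl, rfl⟩
  have hc' : -c⁻¹ ≠ 0 := by simpa using hc
  rw [show {g : Rc Φ c | g.1 ∈ rSet Φ c} = {g : Rc Φ c | g.1 ∈ qSet Φ {v | Φ.N v = c} (-c⁻¹)} by rw [e]]
  refine cls_qSet hΦ Rc_le hc' (fun v hv e => hc (by simpa [e] using hv.symm))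
    (fun v hv => by rw [Φ.orth_B_self, show Φ.N v = c from hv]; field_simp; ring)
    (fun u hu v hv h => by
      rw [Φ.orth_symm u v, Kind.orth_σ, and_self]; exact zmod3_sq (mul_ne_zero hc' h))
    (by rw [← e]; rfl) (fun g hg v hv => ((Rc_le hg).2 v).trans hv)
    (fun u hu v hv => by
      obtain ⟨g, hg, e⟩ := E_trans hΦ (by decide) (by omega) (u := u) (v := v) (hu ▸ hc) (hu.trans hv.symm)
      exact ⟨g, E_le_Rc hΦ hn hc hg, 1, by simp, by simpa using e⟩) ?_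
  obtain ⟨v, hv⟩ := orth_represents hΦ (by omega) c
  exact e ▸ ⟨_, v, hv ▸ hc, hv, rfl⟩

end Cfsg.Agent.Tr3
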