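import Cfsg.Agent.Lib.Tr3.Clas

/-! Reflection groups over the field with three elements. -/

set_option autoImplicit false
set_option linter.unusedSectionVars false
set_option linter.unusedVariables false

namespace Cfsg.Agent.Tr3

open Cfsg.Agent.Classical Cfsg.Agent.Fi Cfsg.Agent.Comp Module Subgroup

theorem struct_of_qs {G : Type*} [Group G] [Finite G] {D : Set G} (h : IsThreeTranspositionClass D)
    (hq : QS (commutator G)) (hc : centralizer (commutator G : Set G) ≤ center G) :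
    IsQuasisimple (commutator G) ∧ (commutator G).index ≤ 2 ∧
      generalizedFittingSubgroup G = center G ⊔ commutator G ∧ IsPrimitiveUnderConj D := by
  have p := pw_of_qs h hq hc
  obtain ⟨d, hd, -⟩ := h.2.1
  refine ⟨hq.isQuasisimple, index_le_two_of p.tt h.2.2 hd fun e he => mem_commutator_of h hd he, ?_, p.prim⟩
  obtain ⟨L, hN, hL, e⟩ := exists_L h p.prim.2.1 (prim_two h p.prim) (prim_three h p.prim p.w)
  rw [e, comp_unique h ⟨SubnIn.of_normal L, hL⟩ ⟨SubnIn.of_normal _, hq⟩, sup_comm]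

section
variable {V : Type*} [AddCommGroup V] [Module (ZMod 3) V] [FiniteDimensional (ZMod 3) V]
  {Φ : Form (Kind.orth (ZMod 3)) V} {c : ZMod 3}

theorem map_comm_Rc (hΦ : Φ.Nondeg) (hn : 5 ≤ finrank (ZMod 3) V) (hc : c ≠ 0) :
    (commutator (Rc Φ c)).map (Rc Φ c).subtype = Φ.E := by
  rw [map_subtype_commutator]
  apply le_antisymm
  · rw [(Form.good_of_two hΦ (by decide)).E_eq hΦ (by omega)]
    exact commutator_mono Rc_le Rc_le
  · have := Form.orth_E_perfect hΦ hn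
    have h2 := congrArg (Subgroup.map Φ.E.subtype) this
    rw [map_subtype_commutator, ← MonoidHom.range_eq_map, range_subtype] at h2
    rw [← h2]
    exact commutator_mono (E_le_Rc hΦ hn hc) (E_le_Rc hΦ hn hc)

theorem index_Rc (hΦ : Φ.Nondeg) (hn : 5 ≤ finrank (ZMod 3) V) (hc : c ≠ 0) :
    ((Rc Φ c).subgroupOf Φ.Isom).index = 2 := by
  have hG := Form.good_of_two hΦ (by decide)
  obtain ⟨χ, h1, h2, g, h3⟩ : ∃ χ : Φ.Isom →* ℤˣ, (∀ v h, Φ.N v = c → χ (Φ.reflI v h) = 1) ∧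
      (∀ g, hG.dick hΦ g = 1 → χ g = hG.spin hΦ g) ∧ ∃ g, χ g = -1 := by
    obtain ⟨v, hv, w, hw, e1, e2⟩ := hG.exists_refl_pair hΦ (by decide) (by omega)
    rcases Int.units_eq_one_or (sqSign (ZMod 3) (Units.mk0 c hc)) with s | s
    · exact ⟨hG.spin hΦ, fun u h e => by subst e; rw [hG.spin_reflI, s], fun _ _ => rfl, _, e2⟩
    · refine ⟨hG.spin hΦ * hG.dick hΦ, fun u h e => ?_, fun g e => by simp [e], Φ.reflI v hv, ?_⟩
      · subst e; rw [MonoidHom.mul_apply, hG.spin_reflI, s, hG.dick_reflI]; simp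
      · rw [MonoidHom.mul_apply, e1, hG.dick_reflI]; simp
  rw [← index_ker_of_neg_one h3]
  congr 1
  have k : ∀ g : Φ.Isom, g.1 ∈ Rc Φ c → χ g = 1 := fun g hg => by
    have : closure {g : Φ.Isom | g.1 ∈ rSet Φ c} ≤ χ.ker := (closure_le _).2 (by
      rintro ⟨_, hx⟩ ⟨v, h, e, rfl⟩
      exact h1 v h e)
    exact this ((Form.mem_closure_subtype rSet_le).2 hg)
  have k2 : ∀ g : Φ.Isom, hG.dick hΦ g = 1 → χ g = 1 → g.1 ∈ Rc Φ c := fun g a b =>
    E_le_Rc hΦ hn hc ((hG.mem_E_iff hΦ (by omega)).2 ((hG.mem_commutator_iff hΦ).2 ⟨a, h2 g a ▸ b⟩))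
  ext g
  refine ⟨k g, fun hg => ?_⟩
  rcases Int.units_eq_one_or (hG.dick hΦ g) with s | s
  · exact k2 g s hg
  · obtain ⟨v, hv⟩ := orth_represents hΦ (by omega) c
    have hv' : Φ.N v ≠ 0 := hv ▸ hc
    have := k2 (g * Φ.reflI v hv') (by simp [s]) (by rw [map_mul, h1 v hv' hv, show χ g = 1 from hg, mul_one])
    exact (Subgroup.mul_mem_cancel_right _ (Subgroup.subset_closure
      (show Φ.refl v hv' ∈ rSet Φ c from ⟨v, hv', hv, rfl⟩))).1 this

theorem struct_Rc (hΦ : Φ.Nondeg) (hn : 5 ≤ finrank (ZMod 3) V) (hc : c ≠ 0) {G : Type*} [Group G]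
    (e : G ≃* Rc Φ c) : QS (commutator G) ∧ centralizer (commutator G : Set G) ≤ center G := by
  obtain ⟨u, f, h⟩ := orth_exists_hyp hΦ (by omega)
  have hR := Form.orth_rich hΦ hn
  have hp := Form.orth_E_perfect hΦ hn
  have m : (commutator G).map ((Rc Φ c).subtype.comp e.toMonoidHom) = Φ.E := by
    rw [← map_map, ← map_comm_Rc hΦ hn hc]
    congr 1
    rw [commutator_eq_comap e]
    exact map_comap_eq_self_of_surjective e.surjective _
  refine ⟨QS.of_map_injective (f := (Rc Φ c).subtype.comp e.toMonoidHom)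
    ((Rc Φ c).subtype_injective.comp e.injective) ?_, fun g hg => ?_⟩
  · rw [m]; exact QS.of_isQuasisimple ⟨⟨hp⟩, hR.simple_E hΦ h hp⟩
  · rw [← mem_center_congr e, hR.rich0.mem_center_iff hΦ h (E_le_Rc hΦ hn hc) Rc_le]
    refine hR.rich0.scalar_of_comm hΦ h (Rc_le (e g).2) fun x hx => ?_
    rw [← m] at hx
    obtain ⟨y, hy, rfl⟩ := hx
    have := congrArg ((Rc Φ c).subtype.comp e.toMonoidHom) (hg y hy)
    rw [map_mul, map_mul] at this
    exact this

end

theorem mem_reflEquiv {F : Type*} [Field F] {ι : Type} [Fintype ι] [DecidableEq ι]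
    (Φ : Form (Kind.orth F) (ι → F)) {c : F} (hc : c ≠ 0) (g : Cfsg.reflectionSubgroup Φ.N c) :
    (g : Cfsg.isometryGroup F Φ.N) ∈ Cfsg.reflectionsOfNorm Φ.N c ↔ (reflEquiv Φ hc g).1 ∈ rSet Φ c := by
  constructor
  · rintro ⟨v, hv, e⟩
    exact ⟨v, hv ▸ hc, hv, (coe_eq_refl_iff Φ g.1 (hv ▸ hc)).1 e⟩
  · rintro ⟨v, h, hv, e⟩
    exact ⟨v, hv, (coe_eq_refl_iff Φ g.1 h).2 e⟩

end Cfsg.Agent.Tr3
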