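import Cfsg.Agent.Lib.Tr3.Struct

/-! Primitive 3-transposition groups have rank three. -/

set_option autoImplicit false
set_option linter.unusedSectionVars false
set_option linter.unusedVariables false
set_option linter.style.longLine false

namespace Cfsg.Agent.Tr3

open Subgroup Cfsg.Agent.Fi Cfsg.Agent.Comp
open scoped commutatorElement

universe u
variable {G : Type u} [Group G] [Finite G] {D : Set G}

/-- primitive of width at least two -/
structure PW (D : Set G) : Prop where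
  cls : IsThreeTranspositionClass D
  prim : IsPrimitiveUnderConj D
  w : ∃ a ∈ D, ∃ b ∈ D, a ≠ b ∧ Commute a b

omit [Finite G] in
theorem s4_comm (h : TT D) {x y b : G} (hx : x ∈ D) (hy : y ∈ D) (hb : b ∈ D) (hxy : Commute x y)
    (hbx : ¬ Commute b x) (hby : ¬ Commute b y) : Commute (x * b * x⁻¹) (y * b * y⁻¹) := by
  obtain ⟨φ, rfl, rfl, rfl⟩ := s4_hom h hx hy hb hxy hbx hby
  simp only [← map_mul, ← map_inv]
  exact Commute.map (by unfold Commute SemiconjBy; decide) φ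

omit [Finite G] in
theorem ncard_conj (h : TT D) (P : G → G → Prop) (g : G) {a b : G} (hP : ∀ e, P b (g * e * g⁻¹) ↔ P a e) :
    {e | e ∈ D ∧ P a e}.ncard = {e | e ∈ D ∧ P b e}.ncard := by
  refine Set.ncard_congr (fun e _ => g * e * g⁻¹) (fun e he => ⟨h.conj g e he.1, (hP e).2 he.2⟩)
    (fun a b _ _ e => conj_inj'.1 e) fun e he => ⟨g⁻¹ * e * g⁻¹⁻¹, ⟨h.conj _ e he.1, (hP _).1 ?_⟩, by simp [mul_assoc]⟩
  simpa [mul_assoc] using he.2

omit [Finite G] in
theorem closure_conj_inv {S B : Set G} (hS : ∀ x ∈ S, x⁻¹ ∈ S) (h : ∀ x ∈ S, ∀ b ∈ B, x * b * x⁻¹ ∈ B) :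
    ∀ g ∈ closure S, ∀ b ∈ B, g * b * g⁻¹ ∈ B := by
  intro g hg
  induction hg using closure_induction'' with
  | one => simp
  | mem a ha => exact h a ha
  | inv_mem a ha => exact h _ (hS a ha)
  | mul a b _ _ h1 h2 => intro x hx; simpa [mul_assoc] using h1 _ (h2 x hx)

theorem closure_comm {S : Set G} {d : G} (h : ∀ x ∈ S, Commute d x) : ∀ g ∈ closure S, Commute g d := fun g hg => by
  have : closure S ≤ centralizer {d} := (closure_le _).2 fun x hx => Transfer.mem_centralizer_singleton'.2 (h x hx).symm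
  exact Transfer.mem_centralizer_singleton'.1 (this hg)

namespace PW

omit [Finite G] in
theorem tt (h : PW D) : TT D := tt_cls h.cls

theorem conn (h : PW D) : (commutingGraph D).Connected := prim_conn h.cls h.prim h.w

theorem noV (h : PW D) {d v : G} (hv : RV D d v) : v = d := (two_central_iff h.cls hv.1).1 (prim_two h.cls h.prim) v hv

theorem noW (h : PW D) {d v : G} (hv : RW D d v) : v = d :=
  (three_central_iff h.cls hv.1).1 (prim_three h.cls h.prim h.w) v hv

theorem eq_of_sub (h : PW D) {a b : G} (ha : a ∈ D) (hb : b ∈ D) (hs : ∀ e ∈ D, Commute a e → Commute b e) : b = a := by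
  obtain ⟨g, hg⟩ := cls_conj h.cls ha hb
  have := Set.eq_of_subset_of_ncard_le (s := {e | e ∈ D ∧ Commute a e}) (t := {e | e ∈ D ∧ Commute b e})
    (fun e he => ⟨he.1, hs e he.1 he.2⟩) (ncard_conj h.tt Commute g fun e => hg ▸ commute_conj_iff).ge
  exact h.noV ⟨ha, hb, fun e he => ⟨fun h1 => (this.symm.subset ⟨he, h1⟩).2, hs e he⟩⟩

theorem eq_of_subW (h : PW D) {a b : G} (ha : a ∈ D) (hb : b ∈ D)
    (hs : ∀ e ∈ D, e ≠ a → Commute a e → e ≠ b ∧ Commute b e) : b = a := by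
  obtain ⟨g, hg⟩ := cls_conj h.cls ha hb
  exact h.noW ⟨ha, hb, Set.eq_of_subset_of_ncard_le (fun e he => ⟨he.1, hs e he.1 he.2.1 he.2.2⟩)
    (ncard_conj h.tt (fun a e => e ≠ a ∧ Commute a e) g fun e => by
      rw [← hg, commute_conj_iff, Ne, conj_inj']).ge⟩

theorem transA (h : PW D) {d c e : G} (hd : d ∈ D) (hc : c ∈ D) (he : e ∈ D) (hdc : ¬ Commute d c) (hde : ¬ Commute d e) :
    ∃ g ∈ closure {y : G | y ∈ D ∧ Commute d y}, g * c * g⁻¹ = e := by
  have t := h.tt
  set H := closure {y : G | y ∈ D ∧ Commute d y} with hH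
  let sim : G → G → Prop := fun x y => ∃ g ∈ H, g * x * g⁻¹ = y
  let A : Set G := {x | x ∈ D ∧ ¬ Commute d x}
  have mH : ∀ {y}, y ∈ D → Commute d y → y ∈ H := fun h1 h2 => subset_closure ⟨h1, h2⟩
  have cH : ∀ g ∈ H, Commute g d := closure_comm fun x hx => hx.2
  have symm : ∀ {x y}, sim x y → sim y x := fun ⟨g, hg, e⟩ => ⟨g⁻¹, inv_mem hg, by rw [← e]; group⟩
  have trans : ∀ {x y z}, sim x y → sim y z → sim x z := fun ⟨g, hg, e⟩ ⟨k, hk, e'⟩ =>
    ⟨k * g, mul_mem hk hg, by rw [← e', ← e]; group⟩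
  have hA : ∀ {x y}, x ∈ A → sim x y → y ∈ A := fun hx ⟨g, hg, e⟩ => ⟨e ▸ t.conj g _ hx.1, fun h1 => hx.2 (by
    rwa [← e, ← conj_eq_iff.2 (cH g hg), commute_conj_iff] at h1)⟩
  have f2 : ∀ {c e}, c ∈ A → e ∈ A → Commute c e → sim c e := fun {c e} hc he h1 =>
    ⟨_, mul_mem (mH hd (Commute.refl d)) (mH (t.conj _ d hd) (t.s4 hc.1 he.1 hd h1 hc.2 he.2)),
      (s4_conj t hc.1 he.1 hd h1 hc.2 he.2).2⟩
  have f3 : ∀ {c e u}, c ∈ A → e ∈ A → ¬ sim c e → u ∈ D → Commute d u → Commute u e → ¬ Commute u c →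
      sim c (e * c * e⁻¹) := fun {c e u} hc he hn hu h1 h2 h3 => by
    have hce : ¬ Commute c e := fun h4 => hn (f2 hc he h4)
    have s1 : sim c (u * c * u⁻¹) := ⟨u, mH hu h1, rfl⟩
    refine trans s1 (f2 (hA hc s1) ⟨t.conj _ _ hc.1, fun h4 => hn ?_⟩ (s4_comm t hu he.1 hc.1 h2 (fun h => h3 h.symm) hce))
    have s2 : sim c (d * c * d⁻¹) := ⟨d, mH hd (Commute.refl d), rfl⟩
    refine trans s2 (f2 (hA hc s2) he ?_)
    rw [t.inv he.1, ← t.braid c hc.1 e he.1 hce] at h4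
    rw [t.inv hd, t.braid d hd c hc.1 hc.2]
    nth_rw 2 [← t.inv hc.1] at h4 ⊢
    rw [commute_conj_left]
    rwa [inv_inv, t.inv hc.1] at *
  let S : G → Set G := fun c => {u | u ∈ D ∧ Commute d u ∧ Commute u c}
  have hS : ∀ {x y}, sim x y → (S x).ncard = (S y).ncard := fun ⟨g, hg, e⟩ =>
    ncard_conj t (fun c u => Commute d u ∧ Commute u c) g fun u => by
      rw [← e, commute_conj_iff]; nth_rw 1 [← conj_eq_iff.2 (cH g hg)]; rw [commute_conj_iff]
  have f3' : ∀ {c e}, c ∈ A → e ∈ A → ¬ sim c e → ¬ S e ⊆ S c → sim c (e * c * e⁻¹) := fun hc he hn h1 => by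
    obtain ⟨u, hu, hu'⟩ := Set.not_subset.1 h1
    exact f3 hc he hn hu.1 hu.2.1 hu.2.2 fun h2 => hu' ⟨hu.1, hu.2.1, h2⟩
  have f5 : ∀ {c e}, c ∈ A → e ∈ A → ¬ sim c e → S e ⊆ S c := fun {c e} hc he hn => by
    by_contra h1
    have h2 : S c ⊆ S e := by
      by_contra h2
      refine hn (trans (f3' hc he hn h1) (symm ?_))
      have := f3' he hc (fun h => hn (symm h)) h2
      rw [t.inv hc.1, t.braid c hc.1 e he.1 fun h4 => hn (f2 hc he h4)] at this
      rwa [t.inv he.1]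
    have h3 := Set.ncard_lt_ncard (s := S c) (t := S e) ⟨h2, h1⟩
    have h4 : ∀ g ∈ closure ({y : G | y ∈ D ∧ Commute d y} ∪ {e}), ∀ b ∈ {x | sim c x}, g * b * g⁻¹ ∈ {x | sim c x} := by
      refine closure_conj_inv ?_ ?_
      · rintro x (hx | rfl)
        · rw [t.inv hx.1]; exact Or.inl hx
        · rw [t.inv he.1]; exact Or.inr rfl
      · rintro x (hx | rfl) b hb
        · exact trans hb ⟨x, subset_closure hx, rfl⟩
        · refine trans hb (f3' (hA hc hb) he (fun h => hn (trans hb h)) fun h5 => ?_)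
          have := Set.ncard_le_ncard h5
          have := hS hb
          omega
    rcases max_dsub h.cls h.prim h.conn hd (H := closure ({y : G | y ∈ D ∧ Commute d y} ∪ {e}))
      (le_antisymm ((closure_le _).2 fun x hx => hx.2) (closure_mono fun x hx =>
        ⟨hx.elim (fun h => h.1) fun h => h ▸ he.1, subset_closure hx⟩)) (closure_mono Set.subset_union_left) with e1 | e1
    · exact he.2 (cH e (hH ▸ e1 ▸ subset_closure (Or.inr rfl))).symm
    · obtain ⟨g, hg⟩ := cls_conj h.cls hc.1 hd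
      exact (hA hc (hg ▸ h4 g (e1 ▸ mem_top g) c ⟨1, one_mem _, by simp⟩)).2 (Commute.refl d)
  by_contra hn
  have hn' : ¬ sim c e := hn
  have f6 : ∀ x ∈ A, ∀ y ∈ A, S x ⊆ S y := fun x hx y hy => by
    by_cases h1 : sim y x
    · by_cases h2 : sim x c
      · have h3 : ¬ sim x e := fun h => hn' (trans (symm h2) h)
        exact (f5 ⟨he, hde⟩ hx fun h => h3 (symm h)).trans (f5 hy ⟨he, hde⟩ fun h => h3 (trans (symm h1) h))
      · exact (f5 ⟨hc, hdc⟩ hx fun h => h2 (symm h)).trans (f5 hy ⟨hc, hdc⟩ fun h => h2 (trans (symm h1) h))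
    · exact f5 hy hx h1
  rcases md_trivial h.cls h.prim h.conn (M := A) ⟨fun x hx => hx.1, fun x hx hxA a ha b hb h1 =>
    (f6 a ha b hb ⟨hx, by_contra fun h => hxA ⟨hx, h⟩, h1⟩).2.2⟩ with e1 | e1
  · exact hn ⟨1, one_mem _, by simpa using e1 ⟨hc, hdc⟩ ⟨he, hde⟩⟩
  · exact (e1.symm.subset hd).2 (Commute.refl d)

theorem transD (h : PW D) {d y y' : G} (hd : d ∈ D) (hy : y ∈ {y : G | y ∈ D ∧ y ≠ d ∧ Commute d y})
    (hy' : y' ∈ {y : G | y ∈ D ∧ y ≠ d ∧ Commute d y}) :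
    ∃ g ∈ closure {y : G | y ∈ D ∧ y ≠ d ∧ Commute d y}, g * y * g⁻¹ = y' := by
  have t := h.tt
  set E := {y : G | y ∈ D ∧ y ≠ d ∧ Commute d y} with hE
  set H := closure E with hH
  let orb : G → Set G := fun x => {y | ∃ g ∈ H, g * x * g⁻¹ = y}
  have cH : ∀ g ∈ H, Commute g d := closure_comm fun x hx => hx.2.2
  have hEc : ∀ g, Commute g d → ∀ x ∈ E, g * x * g⁻¹ ∈ E := fun g hg x hx => ⟨t.conj g x hx.1, fun e => hx.2.1 (by
    rwa [← conj_eq_iff.2 hg, conj_inj'] at e), by rw [← conj_eq_iff.2 hg, commute_conj_iff]; exact hx.2.2⟩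
  have oE : ∀ {x}, x ∈ E → orb x ⊆ E := fun hx y ⟨g, hg, e⟩ => e ▸ hEc g (cH g hg) _ hx
  have oc : ∀ {x}, ∀ g ∈ H, ∀ y ∈ orb x, g * y * g⁻¹ ∈ orb x := fun g hg y ⟨k, hk, e⟩ =>
    ⟨g * k, mul_mem hg hk, by rw [← e]; group⟩
  have on : ∀ {x}, x ∈ E → ∀ u ∈ orb x, ∀ v ∈ E, ¬ Commute u v → v ∈ orb x := fun hx u hu v hv hn =>
    t.swap (oE hx hu).1 hv.1 hn ▸ oc _ (mul_mem (subset_closure (oE hx hu)) (subset_closure hv)) u hu
  obtain ⟨c, hc, hcd⟩ := exists_nc h.cls h.prim.2.1 hd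
  have key : ∀ {x}, x ∈ E → ∃ u ∈ orb x, ∃ v ∈ orb x, ¬ Commute u v ∧ ¬ Commute c u ∧ Commute c v := by
    intro x hx
    by_contra hn
    push Not at hn
    have h1 : ∀ g ∈ H, ∀ u ∈ {u | u ∈ orb x ∧ ¬ Commute c u}, g * u * g⁻¹ ∈ {u | u ∈ orb x ∧ ¬ Commute c u} := by
      refine closure_conj_inv (fun z hz => by rwa [t.inv hz.1]) fun z hz u hu => ?_
      by_cases hzu : Commute z u
      · rwa [conj_eq_iff.2 hzu]
      refine ⟨oc z (subset_closure hz) u hu.1, hn u hu.1 _ (oc z (subset_closure hz) u hu.1) (fun h => hzu ?_) hu.2⟩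
      have hu' := (oE hx hu.1).1
      rw [t.inv hz.1, t.braid z hz.1 u hu' hzu] at h
      simpa [mul_assoc, t.cancel hu', t.sq u hu'] using (((Commute.refl u).mul_right h).mul_right (Commute.refl u)).symm
    have h2 : ∀ a ∈ orb x, ∀ b ∈ orb x, Commute c a → Commute c b := by
      rintro _ ⟨g, hg, rfl⟩ _ ⟨k, hk, rfl⟩ h3
      by_contra h4
      have := (h1 (g * k⁻¹) (mul_mem hg (inv_mem hk)) _ ⟨⟨k, hk, rfl⟩, h4⟩).2
      simp only [mul_assoc, mul_inv_rev, inv_inv, inv_mul_cancel_left] at this h3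
      exact this h3
    have h3 : ∀ g ∈ closure {y : G | y ∈ D ∧ Commute d y}, ∀ u ∈ orb x, g * u * g⁻¹ ∈ orb x := by
      refine closure_conj_inv (fun z hz => by rwa [t.inv hz.1]) fun z hz u hu => ?_
      by_cases e : z = d
      · rwa [e, conj_eq_iff.2 (oE hx hu).2.2]
      · exact oc z (subset_closure ⟨hz.1, e, hz.2⟩) u hu
    have hx' : x ∈ orb x := ⟨1, one_mem _, by simp⟩
    have h4 : ∀ e ∈ D, Commute d e → e ∉ orb x → ∀ b ∈ orb x, Commute e b := fun e he h5 hn b hb => by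
      by_cases e1 : e = d
      · exact e1 ▸ (oE hx hb).2.2
      · by_contra h6
        exact hn (on hx b hb e ⟨he, e1, h5⟩ fun h => h6 h.symm)
    rcases md_trivial h.cls h.prim h.conn (M := orb x) ⟨fun z hz => (oE hx hz).1, fun e he hn a ha b hb h5 => by
      by_cases h6 : Commute d e
      · exact h4 e he h6 hn b hb
      obtain ⟨g, hg, rfl⟩ := h.transA hd hc he (fun h => hcd h.symm) h6
      rw [commute_conj_left] at h5 ⊢
      exact h2 _ (h3 _ (inv_mem hg) a ha) _ (h3 _ (inv_mem hg) b hb) h5⟩ with e1 | e1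
    · refine hx.2.1 (h.eq_of_sub hd hx.1 fun e he h5 => ?_)
      by_cases h6 : e ∈ orb x
      · exact e1 hx' h6 ▸ Commute.refl x
      · exact (h4 e he h5 h6 x hx').symm
    · exact (oE hx (e1.symm.subset hd)).2.1 rfl
  by_contra hn
  have disj : ∀ s ∈ orb y, s ∉ orb y' := fun s ⟨g, hg, e⟩ ⟨k, hk, e'⟩ =>
    hn ⟨k⁻¹ * g, mul_mem (inv_mem hk) hg, by rw [mul_inv_rev, mul_assoc k⁻¹, ← mul_assoc, mul_assoc k⁻¹, e, ← e']; group⟩
  obtain ⟨u, hu, p, hp, a1, a2, a3⟩ := key hy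
  obtain ⟨v, hv, q, hq, b1, b2, b3⟩ := key hy'
  have cm : ∀ a ∈ orb y, ∀ b ∈ orb y', Commute a b := fun a ha b hb => by
    by_contra h1
    exact disj b (on hy a ha b (oE hy' hb) h1) hb
  have fin : ∀ {u p v s : G}, u ∈ D → ¬ Commute c u → Commute c p → p ∈ D → ¬ Commute u p → Commute d p → Commute v p →
      Commute s p → Commute d u → Commute c (d * u * v * s) → (d * u * v * s) * (d * u * v * s) = 1 → False := by
    intro u p v s hu h1 h2 hp h3 h4 h5 h6 h7 h8 h9
    have e : d * u * v * s * p * (d * u * v * s)⁻¹ = u * p * u⁻¹ := by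
      calc _ = d * u * (v * (s * p * s⁻¹) * v⁻¹) * (d * u)⁻¹ := by group
        _ = u * (d * p * d⁻¹) * u⁻¹ := by rw [conj_eq_iff.2 h6, conj_eq_iff.2 h5, h7.eq]; group
        _ = _ := by rw [conj_eq_iff.2 h4]
    have h10 := (h8.mul_right h2).mul_right h8.inv_right
    rw [e, t.inv hu, t.braid u hu p hp h3] at h10
    have := (h2.mul_right h10).mul_right h2
    simp only [mul_assoc, t.cancel hp, t.sq p hp, mul_one] at this
    exact h1 this
  have huE := oE hy hu
  have hvE := oE hy' hv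
  obtain ⟨s, hs, s1, s2, s3, s4, -, -, -, -, s5⟩ := t.d4_main hd huE.1 hvE.1 hc huE.2.2 hvE.2.2 (cm u hu v hv)
    huE.2.1.symm hvE.2.1.symm (fun e => disj u hu (e ▸ hv)) hcd a2 b2
  have sq : (d * u * v * s) * (d * u * v * s) = 1 := by
    rw [← pow_two, ((s1.mul_left s2).mul_left s3).mul_pow, (hvE.2.2.mul_left (cm u hu v hv)).mul_pow, huE.2.2.mul_pow]
    simp only [pow_two, t.sq d hd, t.sq u huE.1, t.sq v hvE.1, t.sq s hs, mul_one]
  by_cases h1 : s ∈ orb y
  · have e : d * u * v * s = d * v * u * s := by rw [mul_assoc d, (cm u hu v hv).eq, mul_assoc d v]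
    rw [e] at s5 sq
    exact fin hvE.1 b2 b3 (oE hy' hq).1 b1 (oE hy' hq).2.2 (cm u hu q hq) (cm s h1 q hq) hvE.2.2 s5 sq
  · refine fin huE.1 a2 a3 (oE hy hp).1 a1 (oE hy hp).2.2 (cm p hp v hv).symm ?_ huE.2.2 s5 sq
    by_contra h2
    exact h1 (on hy p hp s ⟨hs, s4, s1⟩ fun h => h2 h.symm)

end PW

theorem width_one_solvable (h : IsThreeTranspositionGroup D) (hw : ∀ a ∈ D, ∀ b ∈ D, Commute a b → a = b) :
    Group.IsSolvable G := by
  haveI : Fact (Nat.Prime 3) := ⟨by norm_num⟩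
  have t := tt_grp h
  rcases D.eq_empty_or_nonempty with rfl | ⟨d, hd⟩
  · have := h.2.2
    rw [Subgroup.closure_empty] at this
    haveI : Subsingleton G := ⟨fun a b => (mem_bot.1 (this ▸ mem_top a)).trans (mem_bot.1 (this ▸ mem_top b)).symm⟩
    infer_instance
  have e0 : zpowers d ⊔ pCore 3 G = ⊤ := by
    rw [eq_top_iff, ← h.2.2, closure_le]
    intro e he
    have : d * e ∈ pCore 3 G := (RW_iff t hd he).1 (RW.of hd he fun x hx =>
      ⟨fun h => absurd (hw _ hd _ hx h.2).symm h.1, fun h => absurd (hw _ he _ hx h.2).symm h.1⟩)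
    have := mul_mem (mem_sup_left (mem_zpowers d) : d ∈ zpowers d ⊔ pCore 3 G) (mem_sup_right this)
    rwa [t.cancel hd] at this
  haveI := (isPGroup_pCore (G := G) 3).isNilpotent
  have h1 := isSolvable_sup (H := zpowers d) (N := pCore 3 G) (le_normalizer_normal _ _) inferInstance inferInstance
  rw [e0] at h1
  exact solvable_of_surjective (f := (⊤ : Subgroup G).subtype) fun x => ⟨⟨x, trivial⟩, rfl⟩

omit [Finite G] in
theorem mem_commutator_of (h : IsThreeTranspositionClass D) {a e : G} (ha : a ∈ D) (he : e ∈ D) :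
    a⁻¹ * e ∈ commutator G := by
  obtain ⟨g, rfl⟩ := cls_conj h ha he
  have := commutator_mem_commutator (mem_top a⁻¹) (mem_top g)
  rw [commutatorElement_def, inv_inv] at this
  simpa only [mul_assoc, _root_.commutator_def] using this

theorem pw_of_qs (h : IsThreeTranspositionClass D) (hq : QS (commutator G))
    (hc : centralizer (commutator G : Set G) ≤ center G) : PW D := by
  have hw : ∃ a ∈ D, ∃ b ∈ D, a ≠ b ∧ Commute a b := by
    by_contra hn
    push Not at hn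
    haveI := width_one_solvable (cls_grp h) fun a ha b hb hab => by_contra fun e => hn a ha b hb e hab
    exact hq.not_isSolvable inferInstance
  obtain ⟨d, hd, -⟩ := h.2.1
  exact ⟨h, prim_of_index h (by obtain ⟨a, ha, b, hb, h, -⟩ := hw; exact ⟨a, ha, b, hb, h⟩) hq
    (index_le_two_of (tt_cls h) h.2.2 hd fun e he => mem_commutator_of h hd he) hc, hw⟩

/-- Fischer's hypotheses -/
theorem pw_of_fischer (hsol : ∀ N : Subgroup G, N.Normal → Group.IsSolvable N → N = ⊥)
    (hperf : ⁅commutator G, commutator G⁆ = commutator G) (h : IsThreeTranspositionClass D) : PW D := by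
  haveI : Fact (Nat.Prime 3) := ⟨by norm_num⟩
  have t := tt_cls h
  have hZ : center G = ⊥ := hsol _ inferInstance (by haveI := nil_center (G := G); infer_instance)
  have hp : ∀ p, [Fact p.Prime] → pCore p G ≤ center G := fun p _ =>
    (hsol _ inferInstance (by haveI := (isPGroup_pCore (G := G) p).isNilpotent; infer_instance)).le.trans bot_le
  obtain ⟨d, hd, -⟩ := h.2.1
  have hD2 : ∃ a ∈ D, ∃ b ∈ D, a ≠ b := by
    by_contra hn
    push Not at hn
    exact t.ne d hd (mem_bot.1 (hZ ▸ (le_center_iff h.2.2).2 (fun g hg e he => by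
      obtain ⟨k, rfl⟩ := mem_zpowers_iff.1 hg
      exact (hn d hd e he ▸ Commute.refl d : Commute d e).zpow_left k) (mem_zpowers d)))
  obtain ⟨L, hN, hL, e⟩ := exists_L h hD2 (hp 2) (hp 3)
  have hGL : commutator G = L := by
    refine le_antisymm ?_ (hL.perfect ▸ commutator_mono le_top le_top)
    by_cases hd' : d ∈ L
    · refine le_top.trans (h.2.2 ▸ (closure_le _).2 fun x hx => ?_)
      obtain ⟨g, rfl⟩ := cls_conj h hd hx
      exact hN.conj_mem d hd' g
    have hs : Group.IsSolvable (G ⧸ L) := by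
      refine width_one_solvable (D := QuotientGroup.mk' L '' D) ⟨⟨?_, ?_⟩, ?_, ?_⟩ ?_
      · rintro _ ⟨x, hx, rfl⟩
        refine orderOf_eq_prime (by rw [← map_pow, pow_two, t.sq x hx, map_one]) fun e => hd' ?_
        obtain ⟨g, rfl⟩ := cls_conj h hx hd
        exact hN.conj_mem x ((QuotientGroup.eq_one_iff x).1 e) g
      · rintro _ ⟨x, hx, rfl⟩ _ ⟨y, hy, rfl⟩
        exact (h.1.2 x hx y hy).imp (fun e => by rw [← map_mul, ← map_pow, e, map_one])
          fun e => by rw [← map_mul, ← map_pow, e, map_one]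
      · rintro g _ ⟨x, hx, rfl⟩
        obtain ⟨g, rfl⟩ := QuotientGroup.mk'_surjective L g
        exact ⟨_, t.conj g x hx, by simp⟩
      · rw [← MonoidHom.map_closure, h.2.2]; exact map_top_of_surjective _ (QuotientGroup.mk'_surjective L)
      · rintro _ ⟨x, hx, rfl⟩ _ ⟨y, hy, rfl⟩ hc
        refine QuotientGroup.eq.2 (width_one_mod h hL hx hy ((QuotientGroup.eq_one_iff _).1 ?_))
        have := hc.eq
        simp only [QuotientGroup.mk'_apply] at this
        simp [this]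
    have := solvable_perfect_eq_bot (L := (commutator G).map (QuotientGroup.mk' L)) (by rw [← map_commutator, hperf])
      inferInstance
    rwa [Subgroup.map_eq_bot_iff, QuotientGroup.ker_mk'] at this
  refine pw_of_qs h (hGL ▸ hL) ?_
  refine (le_Fit_of_le_centralizer_Fstar le_top ?_).trans (fit_le_center h (hp 2) (hp 3))
  rw [Fstar_top, e, hZ, sup_bot_eq, hGL]

end Cfsg.Agent.Tr3
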