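import Cfsg.Agent.Lib.Tr3.Rank

/-! Small 3-transposition groups. -/

set_option autoImplicit false
set_option linter.unusedSectionVars false
set_option linter.unusedVariables false
set_option linter.style.longLine false

namespace Cfsg.Agent.Tr3

open Subgroup Cfsg.Agent.Fi Cfsg.Agent.Comp Equiv
open scoped commutatorElement

universe u
variable {G : Type u} [Group G] {D : Set G}

theorem klein (t : TT D) {x y p q r s e : G} (hx : x ∈ D) (hy : y ∈ D) (hp : p ∈ D) (hq : q ∈ D) (hr : r ∈ D) (hs : s ∈ D)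
    (he : e ∈ D) (c1 : Commute x y) (c2 : Commute p q) (c3 : Commute r s) (n1 : x ≠ y) (n2 : p ≠ q) (n3 : r ≠ s)
    (h : x * y * (p * q) = r * s) (e1 : ¬ Commute e x) (e2 : ¬ Commute e y) (e3 : ¬ Commute e p) (e4 : ¬ Commute e q)
    (e5 : ¬ Commute e r) (e6 : ¬ Commute e s) :
    ∃ u ∈ D, ∃ v ∈ D, u ≠ e ∧ v ≠ e ∧ u ≠ v ∧ Commute e u ∧ Commute e v ∧ Commute u v := by
  have i : (x * y)⁻¹ = x * y := inv_eq_of_mul_eq_one_left (by rw [← pow_two, t.sq2 hx hy c1])
  have e0 : (x * y)⁻¹ * (p * q * e * (p * q)⁻¹) * (x * y)⁻¹⁻¹ = r * s * e * (r * s)⁻¹ := by rw [← h]; nth_rw 1 2 [i]; group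
  refine ⟨_, t.conj (x * y) e he, _, t.conj (p * q) e he, t.s4_ne hx hy he n1 e1 e2, t.s4_ne hp hq he n2 e3 e4, fun h1 => ?_,
    t.s4 hx hy he c1 e1 e2, t.s4 hp hq he c2 e3 e4, ?_⟩
  · refine t.s4_ne hr hs he n3 e5 e6 ?_
    rw [← e0, ← h1]; group
  · rw [commute_conj_left, e0]; exact t.s4 hr hs he c3 e5 e6

theorem swap_mem (t : TT D) {α : Type*} [DecidableEq α] (φ : Perm α →* G) {a b : α} (hab : a ≠ b) (h : φ (swap a b) ∈ D)
    {i j : α} (hij : i ≠ j) : φ (swap i j) ∈ D := by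
  obtain ⟨g, hg⟩ := isConj_iff.mp (Perm.isConj_swap hab hij)
  rw [← hg, map_mul, map_mul, map_inv]; exact t.conj _ _ h

theorem closure_eq_range (t : TT D) {α : Type*} [DecidableEq α] [Fintype α] (φ : Perm α →* G) {a b : α} (hab : a ≠ b)
    (h : φ (swap a b) ∈ D) (h1 : ∀ e ∈ D, Commute (φ (swap a b)) e → e ∈ φ.range)
    (h2 : ∀ e ∈ D, ¬ ∀ i j, i ≠ j → ¬ Commute e (φ (swap i j))) : closure D = φ.range := by
  refine le_antisymm ((closure_le _).2 fun e he => ?_) ?_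
  · have := h2 e he
    push Not at this
    obtain ⟨i, j, hij, hc⟩ := this
    obtain ⟨g, hg⟩ := isConj_iff.mp (Perm.isConj_swap hab hij)
    rw [← hg, map_mul, map_mul, map_inv] at hc
    have := h1 _ (t.conj _ e he) (commute_conj_left.1 hc.symm)
    simpa [mul_assoc] using mul_mem (mul_mem (φ.mem_range.2 ⟨g, rfl⟩) this) (inv_mem (φ.mem_range.2 ⟨g, rfl⟩))
  · rw [MonoidHom.range_eq_map, ← Perm.closure_isSwap, MonoidHom.map_closure]
    refine closure_mono ?_
    rintro _ ⟨_, ⟨i, j, hij, rfl⟩, rfl⟩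
    exact swap_mem t φ hab h hij

theorem commute_map_swap {α : Type*} [DecidableEq α] (φ : Perm α →* G) {a b c d : α} (h1 : c ≠ a) (h2 : c ≠ b) (h3 : d ≠ a)
    (h4 : d ≠ b) : Commute (φ (swap a b)) (φ (swap c d)) := (PC.swap_comm_of h1 h2 h3 h4).map φ

theorem sym4 (t : TT D) {x y b : G} (hx : x ∈ D) (hy : y ∈ D) (hb : b ∈ D) (hxy : Commute x y) (hne : x ≠ y)
    (hbx : ¬ Commute b x) (hby : ¬ Commute b y)
    (H : ∀ e ∈ D, ∀ u ∈ D, ∀ v ∈ D, u ≠ e → v ≠ e → Commute e u → Commute e v → u = v) :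
    Nonempty (closure D ≃* Perm (Fin 4)) := by
  obtain ⟨φ, h1, h2, h3⟩ := s4_hom t hx hy hb hxy hbx hby
  have inj : Function.Injective φ := PC.hom_inj (m := 1) φ (fun e => hbx (by
    rw [← h1, ← h2]; exact e ▸ Commute.refl _)) fun _ e => hne (h1.symm.trans (e.trans h3))
  have m := fun i j => swap_mem t φ (a := 0) (b := 1) (by decide) (h1 ▸ hx) (i := i) (j := j)
  rw [closure_eq_range t φ (a := 0) (b := 1) (by decide) (h1 ▸ hx) (fun e he hc => ?_) fun e he hn => ?_]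
  · exact ⟨(MonoidHom.ofInjective inj).symm⟩
  · rw [h1] at hc
    by_cases e1 : e = x
    · exact ⟨_, h1.trans e1.symm⟩
    · exact ⟨_, h3.trans (H x hx y hy e he hne.symm e1 hxy hc)⟩
  · obtain ⟨u, hu, v, hv, a1, a2, a3, a4, a5, -⟩ := klein t (m 0 1 (by decide)) (m 2 3 (by decide)) (m 0 2 (by decide))
      (m 1 3 (by decide)) (m 0 3 (by decide)) (m 1 2 (by decide)) he (by apply commute_map_swap <;> decide)
      (by apply commute_map_swap <;> decide) (by apply commute_map_swap <;> decide) (inj.ne (by decide))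
      (inj.ne (by decide)) (inj.ne (by decide)) (by simp only [← map_mul]; exact congrArg φ (by decide))
      (hn _ _ (by decide)) (hn _ _ (by decide)) (hn _ _ (by decide)) (hn _ _ (by decide)) (hn _ _ (by decide))
      (hn _ _ (by decide))
    exact a3 (H e he u hu v hv a1 a2 a4 a5)

theorem sym5 (t : TT D) {a b c d : G} (ha : a ∈ D) (hb : b ∈ D) (hc : c ∈ D) (hd : d ∈ D) (h1 : ¬ Commute a b)
    (h2 : ¬ Commute b c) (h3 : ¬ Commute c d) (h4 : Commute a c) (h5 : Commute a d) (h6 : Commute b d) (h7 : a ≠ c)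
    (H : ∀ e ∈ D, ∀ u ∈ D, ∀ v ∈ D, u ≠ e → v ≠ e → Commute e u → Commute e v → Commute u v → u = v)
    (H2 : ∀ e ∈ D, e ≠ d → Commute d e → e ∈ closure {a, b}) : Nonempty (closure D ≃* Perm (Fin 5)) := by
  obtain ⟨φ, hφ⟩ := PC.CoxA.hom (s := fun i => [a, b, c, d].getD i 1) (m := 4) ⟨fun i hi => by
    interval_cases i
    exacts [t.sq a ha, t.sq b hb, t.sq c hc, t.sq d hd], fun i hi => by
    have : i < 3 := by omega
    interval_cases i
    exacts [t.braid a ha b hb h1, t.braid b hb c hc h2, t.braid c hc d hd h3], fun i j h1 h2 => by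
    have : i < 2 := by omega
    interval_cases i <;> interval_cases j
    exacts [h4, h5, h6]⟩
  have e0 : φ (swap 0 1) = a := hφ 0 (by norm_num)
  have e1 : φ (swap 1 2) = b := hφ 1 (by norm_num)
  have e2 : φ (swap 2 3) = c := hφ 2 (by norm_num)
  have e3 : φ (swap 3 4) = d := hφ 3 (by norm_num)
  have inj : Function.Injective φ := PC.hom_inj (m := 2) φ (fun e => h1 (by
    rw [← e0, ← e1]; exact e ▸ Commute.refl _)) fun _ e => h7 (e0.symm.trans (e.trans e2))
  have m := fun i j => swap_mem t φ (a := 3) (b := 4) (by decide) (e3 ▸ hd) (i := i) (j := j)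
  rw [closure_eq_range t φ (a := 3) (b := 4) (by decide) (e3 ▸ hd) (fun e he hc => ?_) fun e he hn => ?_]
  · exact ⟨(MonoidHom.ofInjective inj).symm⟩
  · rw [e3] at hc
    by_cases h : e = d
    · exact ⟨_, e3.trans h.symm⟩
    · refine (closure_le φ.range).2 ?_ (H2 e he h hc)
      rintro _ (rfl | rfl)
      exacts [⟨_, e0⟩, ⟨_, e1⟩]
  · obtain ⟨u, hu, v, hv, a1, a2, a3, a4, a5, a6⟩ := klein t (m 0 1 (by decide)) (m 2 3 (by decide)) (m 0 2 (by decide))
      (m 1 3 (by decide)) (m 0 3 (by decide)) (m 1 2 (by decide)) he (by apply commute_map_swap <;> decide)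
      (by apply commute_map_swap <;> decide) (by apply commute_map_swap <;> decide) (inj.ne (by decide))
      (inj.ne (by decide)) (inj.ne (by decide)) (by simp only [← map_mul]; exact congrArg φ (by decide))
      (hn _ _ (by decide)) (hn _ _ (by decide)) (hn _ _ (by decide)) (hn _ _ (by decide)) (hn _ _ (by decide))
      (hn _ _ (by decide))
    exact a3 (H e he u hu v hv a1 a2 a4 a5 a6)

variable [Finite G]

/-- if commuting members are `V`-equivalent then `G = ⟨d⟩ P O₂(G)` -/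
theorem exists_sylow_three (h : IsThreeTranspositionClass D) (hD2 : ∃ a ∈ D, ∃ b ∈ D, a ≠ b) {d : G} (hd : d ∈ D)
    (hV : ∀ y ∈ D, Commute d y → RV D d y) :
    ∃ P : Sylow 3 G, d ∈ normalizer (P : Set G) ∧ zpowers d ⊔ (P : Subgroup G) ⊔ pCore 2 G = ⊤ := by
  haveI : Fact (Nat.Prime 3) := ⟨by norm_num⟩
  have t := tt_cls h
  set Q := pCore 2 G with hQ
  let π := QuotientGroup.mk' Q
  have hV' : ∀ a ∈ D, ∀ b ∈ D, Commute a b → a * b ∈ Q := fun a ha b hb hc => by
    obtain ⟨g, rfl⟩ := cls_conj h hd ha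
    have := (eqv_RV t).conj g (hV _ (t.conj g⁻¹ b hb) (commute_conj_left.1 hc))
    exact (RV_iff t ha hb).1 (by simpa [mul_assoc] using this)
  obtain ⟨c, hc, hcd⟩ := exists_nc h hD2 hd
  have hdQ : ∀ x ∈ D, x ∉ Q := fun x hx h1 => by
    obtain ⟨g, e1⟩ := cls_conj h hx hd
    obtain ⟨k, e2⟩ := cls_conj h hx hc
    exact hcd (commute_of_mem t (p := 2) (by norm_num) (isPGroup_pCore 2) hc hd (pow_mem (mul_mem
      (e2 ▸ Normal.conj_mem inferInstance x h1 k) (e1 ▸ Normal.conj_mem inferInstance x h1 g)) 2))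
  have t' : TT (π '' D) := by
    refine ⟨?_, ?_, ?_, ?_⟩
    · rintro _ ⟨x, hx, rfl⟩; rw [← map_mul, t.sq x hx, map_one]
    · rintro _ ⟨x, hx, rfl⟩ e; exact hdQ x hx ((QuotientGroup.eq_one_iff x).1 e)
    · rintro g _ ⟨x, hx, rfl⟩
      obtain ⟨g, rfl⟩ := QuotientGroup.mk'_surjective Q g
      exact ⟨_, t.conj g x hx, by simp [π]⟩
    · rintro _ ⟨x, hx, rfl⟩ _ ⟨y, hy, rfl⟩ hn
      simp only [← map_mul, t.braid x hx y hy fun e => hn (e.map π)]
  let N := (pCore 3 (G ⧸ Q)).comap π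
  have hN : ∀ e ∈ D, d * e ∈ N := fun e he => by
    have w : ∀ a ∈ π '' D, ∀ b ∈ π '' D, Commute a b → b = a := by
      rintro _ ⟨x, hx, rfl⟩ _ ⟨y, hy, rfl⟩ hc
      have h1 : Commute x y := commute_of_mem t (p := 2) (by norm_num) (isPGroup_pCore 2) hx hy
        ((QuotientGroup.eq_one_iff _).1 (by
          have := t'.sq2 ⟨x, hx, rfl⟩ ⟨y, hy, rfl⟩ hc
          rwa [← map_mul, ← map_pow] at this))
      exact (QuotientGroup.eq.2 (by rw [t.inv hx]; exact hV' x hx y hy h1)).symm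
    have := (RW_iff t' ⟨d, hd, rfl⟩ ⟨e, he, rfl⟩).1 (RW.of ⟨d, hd, rfl⟩ ⟨e, he, rfl⟩ fun x hx =>
      ⟨fun h => absurd (w _ ⟨d, hd, rfl⟩ _ hx h.2) h.1, fun h => absurd (w _ ⟨e, he, rfl⟩ _ hx h.2) h.1⟩)
    rwa [← map_mul] at this
  have hQN : Q ≤ N := fun x hx => by
    rw [mem_comap, (QuotientGroup.eq_one_iff x).2 hx |>.trans rfl |> (show π x = 1 from ·)]; exact one_mem _
  have syl : ∀ {P M : Subgroup G}, M ≤ N → SylIn 3 P M → M ≤ P ⊔ Q := fun {P M} hM hP => by
    have h1 := hP.map π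
    have h2 := h1.max (M.map π) ((isPGroup_pCore 3).to_le (map_le_iff_le_comap.2 hM)) h1.le le_rfl
    have := le_comap_map π M
    rwa [h2, comap_map_eq, QuotientGroup.ker_mk'] at this
  obtain ⟨R, hR⟩ := exists_sylIn 3 (N ⊓ centralizer {d})
  obtain ⟨P, hRP, ⟨hPN, hP3, hPd⟩, hmax⟩ := exists_maximal_subgroup
    (P := fun P => P ≤ N ∧ IsPGroup 3 P ∧ d ∈ normalizer (P : Set G)) (A := R) ⟨hR.le.trans inf_le_left, hR.isP,
      le_normalizer_of_le_centralizer (A := zpowers d) (le_centralizer_iff.1 (by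
        rw [Comp.centralizer_zpowers]; exact hR.le.trans inf_le_right)) (mem_zpowers d)⟩
  have key : N ⊓ normalizer (P : Set G) ≤ P ⊔ Q := by
    intro x hx
    obtain ⟨hxN, hxP⟩ := mem_inf.1 hx
    have fin : ∀ y ∈ P ⊔ Q, y * d * y⁻¹ = x * d * x⁻¹ → x ∈ P ⊔ Q := fun y hy e => by
      have h1 : y⁻¹ * x ∈ N ⊓ centralizer {d} := mem_inf.2 ⟨mul_mem (inv_mem (sup_le hPN hQN hy)) hxN,
        Transfer.mem_centralizer_singleton'.2 (conj_eq_iff.1 (by
          calc _ = y⁻¹ * (x * d * x⁻¹) * y := by group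
            _ = d := by rw [← e]; group))⟩
      simpa using mul_mem hy (sup_le_sup_right hRP Q (syl inf_le_left hR h1))
    have hx' := t.conj x d hd
    by_cases hc' : Commute d (x * d * x⁻¹)
    · obtain ⟨q, hq, e⟩ := (hV _ hx' hc').orbit t hc hcd
      exact fin q (mem_sup_right hq) e.symm
    refine fin _ (mem_sup_left ?_) (t.swap hd hx' hc')
    have n1 : d * (x * d * x⁻¹) ∈ normalizer (P : Set G) := mul_mem hPd (mul_mem (mul_mem hxP hPd) (inv_mem hxP))
    have := hmax (zpowers (d * (x * d * x⁻¹)) ⊔ P) ⟨sup_le (zpowers_le.2 (hN _ hx')) hPN,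
      (isPGroup_zpowers (n := 1) (by rw [pow_one]; exact t.cube hd hx' hc')).to_sup_of_normal_right' hP3 (zpowers_le.2 n1),
      Transfer.mem_normalizer_sup (mem_normalizer_of_conj_mem (cj_le_iff'.1 ?_)) hPd⟩ le_sup_right
    · exact this ▸ mem_sup_left (mem_zpowers _)
    · rw [cj_zpowers, zpowers_le, show d * (d * (x * d * x⁻¹)) * d⁻¹ = (d * (x * d * x⁻¹))⁻¹ by
        rw [mul_inv_rev, t.inv hx', t.cancel hd]]
      exact inv_mem (mem_zpowers _)
  have hPS : SylIn 3 P N := by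
    refine SylIn.of_normalizer hPN (sylIn_of_not_dvd (le_inf hPN le_normalizer) hP3 fun h3 => ?_)
    have h4 := h3.trans (Dvd.intro _ (relIndex_mul_relIndex P _ _ (le_inf hPN le_normalizer) key))
    have h5 : P.relIndex (P ⊔ Q) ∣ Nat.card Q := by
      have a := card_sup_dvd (H := P) (N := Q) (le_normalizer_normal _ _)
      rw [← relIndex_mul_card (le_sup_left : P ≤ P ⊔ Q), mul_comm] at a
      exact Nat.dvd_of_mul_dvd_mul_left Nat.card_pos a
    obtain ⟨n, hn⟩ := (isPGroup_pCore (G := G) 2).exists_card_eq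
    have := Nat.Prime.dvd_of_dvd_pow (by norm_num) (hn ▸ h4.trans h5)
    omega
  have hi : N.index ≤ 2 := index_le_two_of t h.2.2 hd fun e he => by rw [t.inv hd]; exact hN e he
  have hPT : SylIn 3 P ⊤ := hPS.trans_of_not_dvd le_top (by
    rw [relIndex_top_right]
    exact fun h1 => absurd (Nat.le_of_dvd (Nat.pos_of_ne_zero N.index_ne_zero_of_finite) h1) (by omega))
  refine ⟨hPT.toSylowTop, hPd, ?_⟩
  rw [eq_top_iff, ← h.2.2, closure_le]
  intro e he
  have := mul_mem (mem_sup_left (mem_sup_left (mem_zpowers d)) : d ∈ zpowers d ⊔ P ⊔ Q)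
    (sup_le_sup_right le_sup_right Q (syl le_rfl hPS (hN e he)))
  rwa [t.cancel hd] at this

end Cfsg.Agent.Tr3
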