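import Cfsg.Agent.Lib.Tr3.Small
import Cfsg.Agent.Lib.Transfer.PG

/-! Fischer spaces. -/

set_option autoImplicit false
set_option linter.unusedSectionVars false
set_option linter.unusedVariables false
set_option linter.style.longLine false

namespace Cfsg.Agent.Tr3

open Subgroup Cfsg.Agent.Fi Equiv LineSystem
open scoped commutatorElement

theorem ag_iff (l : Set (Fin 2 → ZMod 3)) : l ∈ affinePlaneThree ↔ ∃ p q, p ≠ q ∧ l = {p, q, -p - q} := by
  have h3 : ∀ c : ZMod 3, c = 0 ∨ c = 1 ∨ c = 2 := by decide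
  have e2 : ∀ x y : ZMod 3, x + 2 * y = -x - (x + y) := by decide
  have key : ∀ v w : Fin 2 → ZMod 3, {x | ∃ c : ZMod 3, x = v + c • w} = {v, v + w, -v - (v + w)} := fun v w => by
    have e : v + (2 : ZMod 3) • w = -v - (v + w) := funext fun i => e2 _ _
    refine Set.ext fun x => ⟨?_, ?_⟩
    · rintro ⟨c, rfl⟩
      rcases h3 c with rfl | rfl | rfl <;> simp [e]
    · rintro (rfl | rfl | rfl)
      exacts [⟨0, by simp⟩, ⟨1, by simp⟩, ⟨2, e.symm⟩]
  constructor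
  · rintro ⟨v, w, hw, rfl⟩
    exact ⟨v, v + w, by simpa using hw, key v w⟩
  · rintro ⟨p, q, h, rfl⟩
    exact ⟨p, q - p, sub_ne_zero.2 h.symm, by rw [key]; simp⟩

/-- the transposition with a given support -/
def dsw (s : DualAffinePoint) : Perm (Fin 4) :=
  if 0 ∈ s.1 then (if 1 ∈ s.1 then swap 0 1 else if 2 ∈ s.1 then swap 0 2 else swap 0 3)
  else if 1 ∈ s.1 then (if 2 ∈ s.1 then swap 1 2 else swap 1 3) else swap 2 3

/-- conjugation on the dual affine plane -/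
def dop (q p : DualAffinePoint) : DualAffinePoint := ⟨p.1.map (dsw q).toEmbedding, by rw [Finset.card_map, p.2]⟩

theorem dsw_inj : ∀ p q, dsw p = dsw q → p = q := by decide +kernel
theorem dsw_dop : ∀ p q, dsw (dop q p) = dsw q * dsw p * (dsw q)⁻¹ := by decide +kernel
theorem dsw_swap : ∀ p, ∃ i j, i ≠ j ∧ dsw p = swap i j := by decide +kernel

theorem dual_iff (l : Set DualAffinePoint) :
    l ∈ dualAffinePlaneTwo ↔ ∃ p q, dsw p * dsw q ≠ dsw q * dsw p ∧ l = {p, q, dop q p} := by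
  have h1 : ∀ i : Fin 4, ∃ p q, dsw p * dsw q ≠ dsw q * dsw p ∧ ∀ s : DualAffinePoint, i ∉ s.1 ↔ s = p ∨ s = q ∨ s = dop q p := by
    decide +kernel
  have h2 : ∀ p q, dsw p * dsw q ≠ dsw q * dsw p → ∃ i : Fin 4, ∀ s : DualAffinePoint, (s = p ∨ s = q ∨ s = dop q p) ↔ i ∉ s.1 := by
    set_option synthInstance.maxSize 1000 in decide +kernel
  constructor
  · rintro ⟨i, rfl⟩
    obtain ⟨p, q, h, h'⟩ := h1 i
    exact ⟨p, q, h, Set.ext h'⟩
  · rintro ⟨p, q, h, rfl⟩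
    obtain ⟨i, h'⟩ := h2 p q h
    exact ⟨i, Set.ext h'⟩

universe u
variable {G : Type u} [Group G] {D : Set G}

/-- the line through two members -/
def ln (x y : D) : Set D := {z : D | (z : G) = x ∨ (z : G) = y ∨ (z : G) = (y : G) * (x : G) * (y : G)⁻¹}

theorem ln_mem {x y : D} (h : ¬ Commute (x : G) y) : ln x y ∈ threeTranspositionLines D := ⟨x, y, h, rfl⟩

theorem s3_hom (t : TT D) {x y : G} (hx : x ∈ D) (hy : y ∈ D) (h : ¬ Commute x y) :
    ∃ φ : Perm (Fin 3) →* G, Function.Injective φ ∧ φ (swap 0 1) = x ∧ φ (swap 1 2) = y := by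
  obtain ⟨φ, hφ⟩ := PC.CoxA.hom (s := fun i => [x, y].getD i 1) (m := 2) ⟨fun i hi => by
    interval_cases i
    exacts [t.sq x hx, t.sq y hy], fun i hi => by
    obtain rfl : i = 0 := by omega
    exact t.braid x hx y hy h, fun i j h1 h2 => by omega⟩
  have e0 : φ (swap 0 1) = x := hφ 0 (by norm_num)
  have e1 : φ (swap 1 2) = y := hφ 1 (by norm_num)
  exact ⟨φ, PC.hom_inj (m := 0) φ (fun e => h (by rw [← e0, ← e1]; exact e ▸ Commute.refl _)) (by omega), e0, e1⟩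

theorem line_eq (t : TT D) {l : Set D} (hl : l ∈ threeTranspositionLines D) {p q : D} (hp : p ∈ l) (hq : q ∈ l)
    (hne : p ≠ q) : ¬ Commute (p : G) q ∧ l = ln p q := by
  obtain ⟨x, y, h, rfl⟩ := hl
  obtain ⟨φ, inj, e0, e1⟩ := s3_hom t x.2 y.2 h
  have key : ∀ a b : Perm (Fin 3), (a = swap 0 1 ∨ a = swap 1 2 ∨ a = swap 1 2 * swap 0 1 * (swap 1 2)⁻¹) →
      (b = swap 0 1 ∨ b = swap 1 2 ∨ b = swap 1 2 * swap 0 1 * (swap 1 2)⁻¹) → a ≠ b → a * b ≠ b * a ∧ ∀ c,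
      (c = swap 0 1 ∨ c = swap 1 2 ∨ c = swap 1 2 * swap 0 1 * (swap 1 2)⁻¹) ↔ (c = a ∨ c = b ∨ c = b * a * b⁻¹) := by
    set_option synthInstance.maxSize 1000 in decide +kernel
  have lift : ∀ {a b : Perm (Fin 3)} {z : G}, (z = φ a ∨ z = φ b ∨ z = φ b * φ a * (φ b)⁻¹) ↔
      ∃ c, z = φ c ∧ (c = a ∨ c = b ∨ c = b * a * b⁻¹) := fun {a b z} => by
    constructor
    · rintro (rfl | rfl | rfl)
      exacts [⟨_, rfl, Or.inl rfl⟩, ⟨_, rfl, Or.inr (Or.inl rfl)⟩, ⟨_, by simp, Or.inr (Or.inr rfl)⟩]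
    · rintro ⟨c, rfl, rfl | rfl | rfl⟩ <;> simp
  simp only [Set.mem_setOf_eq, ← e0, ← e1, lift] at hp hq
  obtain ⟨a, ha, ha'⟩ := hp
  obtain ⟨b, hb, hb'⟩ := hq
  obtain ⟨k1, k2⟩ := key a b ha' hb' fun e => hne (Subtype.ext (by rw [ha, hb, e]))
  refine ⟨fun e => k1 (inj (by rw [map_mul, map_mul, ← ha, ← hb]; exact e)), Set.ext fun z => ?_⟩
  simp only [ln, Set.mem_setOf_eq, ← e0, ← e1, ha, hb, lift, k2]

theorem iso_of (t : TT D) {Y : Type} {M : Set (Set Y)} (f : Y → D) (hf : Function.Injective f) (op : Y → Y → Y)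
    (hop : ∀ p q, (f (op q p) : G) = f q * f p * (f q : G)⁻¹)
    (hM : ∀ l, l ∈ M ↔ ∃ p q, ¬ Commute (f p : G) (f q) ∧ l = {p, q, op q p}) {S : Set D} (hS : S ⊆ Set.range f)
    (hgen : ∀ P : Y → Prop, (∀ y, f y ∈ S → P y) → (∀ p q, P p → P q → P (op q p)) → ∀ y, P y) :
    Isomorphic (restrict (threeTranspositionLines D) (span (threeTranspositionLines D) S)) M := by
  have hl : ∀ p q, ln (f p) (f q) = f '' {p, q, op q p} := fun p q => by
    simp only [Set.image_insert_eq, Set.image_singleton]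
    exact Set.ext fun z => by simp only [ln, Set.mem_setOf_eq, Set.mem_insert_iff, Set.mem_singleton_iff, Subtype.ext_iff, hop]
  have e : span (threeTranspositionLines D) S = Set.range f := by
    refine Set.Subset.antisymm (Set.sInter_subset_of_mem ⟨hS, ?_⟩) ?_
    · rintro l hl' _ ⟨p, rfl⟩ _ ⟨q, rfl⟩ hne hp hq
      rw [(line_eq t hl' hp hq hne).2, hl]
      exact Set.image_subset_range _ _
    · rintro _ ⟨y, rfl⟩ T ⟨h1, h2⟩
      refine hgen (fun y => f y ∈ T) (fun y hy => h1 hy) (fun p q hp hq => ?_) y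
      by_cases hc : Commute (f p : G) (f q)
      · rwa [show f (op q p) = f p from Subtype.ext ((hop p q).trans (conj_eq_iff.2 hc.symm))]
      · exact h2 _ (ln_mem hc) _ hp _ hq (fun e => hc (e ▸ Commute.refl _)) (Or.inl rfl) (Or.inr (Or.inl rfl))
          (Or.inr (Or.inr (hop p q)))
  rw [e]
  refine ⟨(Equiv.ofInjective f hf).symm, fun l => ?_⟩
  have im : ∀ U : Set Y, (Equiv.ofInjective f hf).symm '' l = U ↔ l = {x : Set.range f | (x : D) ∈ f '' U} := fun U => by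
    rw [← Equiv.eq_preimage_iff_image_eq]
    refine Eq.congr_right (Set.ext fun x => ?_)
    obtain ⟨_, y, rfl⟩ := x
    simp [hf.eq_iff]
  rw [hM]
  constructor
  · rintro ⟨_, ⟨x, y, h, rfl⟩, h1, h2⟩
    obtain ⟨p, rfl⟩ := h1 (Or.inl rfl : x ∈ ln x y)
    obtain ⟨q, rfl⟩ := h1 (Or.inr (Or.inl rfl) : y ∈ ln (f p) y)
    exact ⟨p, q, h, (im _).2 (hl p q ▸ h2)⟩
  · rintro ⟨p, q, h, h1⟩
    exact ⟨_, ln_mem h, hl p q ▸ Set.image_subset_range _ _, hl p q ▸ (im _).1 h1⟩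

theorem plane_dual (t : TT D) {a b c : D} (h1 : ¬ Commute (a : G) b) (h2 : ¬ Commute (a : G) c) (h3 : Commute (b : G) c)
    (h4 : b ≠ c) :
    Isomorphic (restrict (threeTranspositionLines D) (span (threeTranspositionLines D) (ln a b ∪ ln a c)))
      dualAffinePlaneTwo := by
  obtain ⟨φ, e0, e1, e2⟩ := s4_hom t b.2 c.2 a.2 h3 h1 h2
  have inj : Function.Injective φ := PC.hom_inj (m := 1) φ (fun e => h1 (by
    rw [← e0, ← e1]; exact e ▸ Commute.refl _)) fun _ e => h4 (Subtype.ext (e0.symm.trans (e.trans e2)))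
  let f : DualAffinePoint → D := fun s => ⟨φ (dsw s), by
    obtain ⟨i, j, h, e⟩ := dsw_swap s
    exact e ▸ swap_mem t φ (a := 0) (b := 1) (by decide) (e0 ▸ b.2) h⟩
  have hop : ∀ p q, (f (dop q p) : G) = f q * f p * (f q : G)⁻¹ := fun p q => by simp [f, dsw_dop]
  have fa : f ⟨{1, 2}, by decide⟩ = a := Subtype.ext e1
  have fb : f ⟨{0, 1}, by decide⟩ = b := Subtype.ext e0
  have fc : f ⟨{2, 3}, by decide⟩ = c := Subtype.ext e2
  refine iso_of t f (fun p q e => dsw_inj p q (inj (congrArg Subtype.val e))) dop hop (fun l => ?_) ?_ fun P hP hc y => ?_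
  · simp only [dual_iff, f, commute_iff_eq, ← map_mul, inj.eq_iff, ne_eq]
  · rw [← fa, ← fb, ← fc]
    rintro z ((h | h | h) | h | h | h) <;> first | exact ⟨_, Subtype.ext h.symm⟩ | exact ⟨_, Subtype.ext ((hop _ _).trans h.symm)⟩
  · have pa := hP _ (Or.inl (Or.inl (congrArg Subtype.val fa)))
    have pb := hP _ (Or.inl (Or.inr (Or.inl (congrArg Subtype.val fb))))
    have pc := hP _ (Or.inr (Or.inr (Or.inl (congrArg Subtype.val fc))))
    have : ∀ y : DualAffinePoint, y = ⟨{1, 2}, by decide⟩ ∨ y = ⟨{0, 1}, by decide⟩ ∨ y = ⟨{2, 3}, by decide⟩ ∨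
        y = dop ⟨{0, 1}, by decide⟩ ⟨{1, 2}, by decide⟩ ∨ y = dop ⟨{2, 3}, by decide⟩ ⟨{1, 2}, by decide⟩ ∨
        y = dop ⟨{2, 3}, by decide⟩ (dop ⟨{0, 1}, by decide⟩ ⟨{1, 2}, by decide⟩) := by decide +kernel
    rcases this y with rfl | rfl | rfl | rfl | rfl | rfl
    exacts [pa, pb, pc, hc _ _ pa pb, hc _ _ pa pc, hc _ _ (hc _ _ pa pb) pc]

theorem burnside_two {u v : G} (hv : v ^ 3 = 1) (h1 : (u * v) ^ 3 = 1) (h2 : (u⁻¹ * v) ^ 3 = 1) : Commute ⁅v, u⁆ u := by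
  have e1 : u * v * u = v⁻¹ * u⁻¹ * v⁻¹ := by
    rw [← mul_inv_rev, ← mul_inv_rev, eq_inv_iff_mul_eq_one, ← h1]; simp only [pow_succ, pow_zero, one_mul, mul_assoc]
  have e2 : u * v⁻¹ * u = v * u⁻¹ * v := by
    calc u * v⁻¹ * u = u * v⁻¹ * u * (u⁻¹ * v) ^ 3 := by rw [h2, mul_one]
      _ = _ := by simp only [pow_succ, pow_zero, one_mul]; group
  have e3 : v * v = v⁻¹ := by rw [eq_inv_iff_mul_eq_one, ← hv]; simp only [pow_succ, pow_zero, one_mul]
  have : Commute (v * u * v⁻¹) u := by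
    calc v * u * v⁻¹ * u = v * (u * v⁻¹ * u) := by group
      _ = v⁻¹ * u⁻¹ * v := by rw [e2, ← e3]; group
      _ = v⁻¹ * u⁻¹ * (v * v)⁻¹ := by rw [e3, inv_inv]
      _ = u * v * u * v⁻¹ := by rw [e1]; group
      _ = _ := by group
  exact this.mul_left (Commute.refl u).inv_left

/-- the nine points of an affine plane -/
theorem ag_points (t : TT D) {a b c : G} (ha : a ∈ D) (hb : b ∈ D) (hc : c ∈ D) (h1 : ¬ Commute a b) (h2 : ¬ Commute a c)
    (h3 : ¬ Commute b c) (h4 : ¬ Commute (a * b * a) c) : ∃ f : (Fin 2 → ZMod 3) → G, (∀ p, f p ∈ D) ∧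
      (∀ p q, f (-p - q) = f q * f p * (f q)⁻¹) ∧ (∀ r, ∃ g : G, ∀ p, f (p + r) = g * f p * g⁻¹) ∧ f 0 = a ∧ f ![1, 0] = b ∧
      f ![0, 1] = c := by
  set u := a * b with hu
  set w := a * c with hw
  have u3 : u ^ 3 = 1 := t.cube ha hb h1
  have w3 : w ^ 3 = 1 := t.cube ha hc h2
  have au : a * u * a⁻¹ = u⁻¹ := by rw [hu, t.cancel ha, mul_inv_rev, t.inv hb]
  have aw : a * w * a⁻¹ = w⁻¹ := by rw [hw, t.cancel ha, mul_inv_rev, t.inv hc]
  have k1 : (u * w) ^ 3 = 1 := by rw [hu, hw, ← mul_assoc]; exact t.cube (t.conj' ha hb) hc h4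
  have k2 : (u⁻¹ * w) ^ 3 = 1 := by
    rw [hu, hw, mul_inv_rev, t.inv ha, t.inv hb, mul_assoc, t.cancel ha]; exact t.cube hb hc h3
  have z1 : Commute ⁅w, u⁆ u := burnside_two w3 k1 k2
  have z2 : Commute ⁅w, u⁆ w := by
    rw [← commutatorElement_inv]
    refine (burnside_two u3 ?_ ?_).inv_left
    · rw [show w * u = w * (u * w) * w⁻¹ by group, conj_pow, k1]; group
    · rw [show w⁻¹ * u = (u⁻¹ * w)⁻¹ by group, inv_pow, k2, inv_one]
  have z3 : Commute ⁅w, u⁆ a := by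
    refine (conj_eq_iff.1 ?_).symm
    rw [conjugate_commutatorElement, au, aw]
    calc ⁅w⁻¹, u⁻¹⁆ = (u * w)⁻¹ * ⁅w, u⁆ * (u * w) := by simp only [commutatorElement_def]; group
      _ = _ := by rw [mul_assoc, (z1.mul_right z2).eq]; group
  let F : ℕ → ℕ → G := fun i j => u ^ i * w ^ j * a * (u ^ i * w ^ j)⁻¹
  have per : ∀ {i j k l}, i % 3 = k % 3 → j % 3 = l % 3 → F i j = F k l := fun {i j k l} e1 e2 => by
    simp only [F]; rw [pow_eq_pow_mod i u3, pow_eq_pow_mod j w3, e1, e2, ← pow_eq_pow_mod k u3, ← pow_eq_pow_mod l w3]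
  have T : ∀ k l i j, u ^ k * w ^ l * F i j * (u ^ k * w ^ l)⁻¹ = F (i + k) (j + l) := fun k l i j => by
    have e1 : ⁅w ^ l, u ^ i⁆ = (⁅w, u⁆ ^ l) ^ i := by
      rw [← Transfer.comm_pow_left z2, Transfer.comm_pow_right]
      rw [Transfer.comm_pow_left z2]; exact z1.pow_left l
    have e2 : w ^ l * u ^ i = (⁅w, u⁆ ^ l) ^ i * (u ^ i * w ^ l) := by rw [← e1, commutatorElement_def]; group
    have e3 : Commute ((⁅w, u⁆ ^ l) ^ i) (F i (j + l)) := by
      refine (Commute.pow_left ?_ l).pow_left i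
      exact (((z1.pow_right _).mul_right (z2.pow_right _)).mul_right z3).mul_right
        ((z1.pow_right _).mul_right (z2.pow_right _)).inv_right
    calc _ = u ^ k * ((w ^ l * u ^ i) * w ^ j * a * ((w ^ l * u ^ i) * w ^ j)⁻¹) * (u ^ k)⁻¹ := by simp only [F]; group
      _ = u ^ k * ((⁅w, u⁆ ^ l) ^ i * F i (j + l) * ((⁅w, u⁆ ^ l) ^ i)⁻¹) * (u ^ k)⁻¹ := by rw [e2]; simp only [F]; group
      _ = _ := by rw [conj_eq_iff.2 e3]; simp only [F]; group
  have A : ∀ i j, a * F i j * a⁻¹ = F (2 * i) (2 * j) := fun i j => by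
    have e1 : u⁻¹ = u ^ 2 := inv_eq_of_mul_eq_one_left (by rw [← pow_succ, u3])
    have e2 : w⁻¹ = w ^ 2 := inv_eq_of_mul_eq_one_left (by rw [← pow_succ, w3])
    simp only [F]
    rw [pow_mul, pow_mul, ← e1, ← e2, ← au, ← aw, conj_pow, conj_pow]; group
  refine ⟨fun p => F (p 0).val (p 1).val, fun p => t.conj _ a ha, fun p q => ?_, fun r => ⟨_, fun p => (per ?_ ?_).trans
    (T (r 0).val (r 1).val _ _).symm⟩, by simp [F], ?_, ?_⟩
  · have m : ∀ x y : ZMod 3, (-x - y).val % 3 = (2 * (x.val + 2 * y.val) + y.val) % 3 := by decide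
    have m' : ∀ x y : ℕ, x % 3 = (x + 2 * y + y) % 3 := by omega
    refine (per (m _ _) (m _ _)).trans ?_
    have e := (per (m' (p 0).val (q 0).val) (m' (p 1).val (q 1).val)).trans (T _ _ _ _).symm
    simp only []
    rw [← T, ← A, e]
    simp only [F]; group
  · simp [ZMod.val_add]
  · simp [ZMod.val_add]
  · simpa [F, ZMod.val_one, hu] using t.swap ha hb h1
  · simpa [F, ZMod.val_one, hw] using t.swap ha hc h2

theorem ag_ne {a b c : G} {f : (Fin 2 → ZMod 3) → G} (hop : ∀ p q, f (-p - q) = f q * f p * (f q)⁻¹)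
    (hT : ∀ r, ∃ g : G, ∀ p, f (p + r) = g * f p * g⁻¹) (e0 : f 0 = a) (e1 : f ![1, 0] = b) (e2 : f ![0, 1] = c)
    (h1 : a ≠ b) (h2 : a ≠ c) (h3 : b ≠ c) (h4 : b ≠ a * c * a⁻¹) {p q : Fin 2 → ZMod 3} (hne : p ≠ q) :
    ¬ Commute (f p) (f q) := by
  intro hc
  have k1 : f p = f q := by
    rw [← conj_eq_iff.2 hc.symm, ← hop, ← conj_eq_iff.2 hc, ← hop]; congr 1; ring
  have k2 : ∀ r, f r = f (r + (q - p)) := fun r => by
    obtain ⟨g, hg⟩ := hT (r - p)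
    have := hg q
    rwa [← k1, ← hg, add_sub_cancel, show q + (r - p) = r + (q - p) by ring, eq_comm] at this
  have k3 : ∀ r, f r = f (r + (q - p) + (q - p)) := fun r => (k2 r).trans (k2 _)
  have e3 : f ![0, 2] = a * c * a⁻¹ := by rw [← e0, ← e2, ← hop]; congr 1; decide
  have : ∀ δ : Fin 2 → ZMod 3, δ ≠ 0 → (0 + δ = ![1, 0] ∨ 0 + δ + δ = ![1, 0]) ∨ (0 + δ = ![0, 1] ∨ 0 + δ + δ = ![0, 1]) ∨
      (![1, 0] + δ = ![0, 1] ∨ ![1, 0] + δ + δ = ![0, 1]) ∨ (![1, 0] + δ = ![0, 2] ∨ ![1, 0] + δ + δ = ![0, 2]) := by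
    decide +kernel
  rcases this _ (sub_ne_zero.2 hne.symm) with (e | e) | (e | e) | (e | e) | (e | e)
  exacts [h1 (by rw [← e0, ← e1, ← e, ← k2]), h1 (by rw [← e0, ← e1, ← e, ← k3]), h2 (by rw [← e0, ← e2, ← e, ← k2]),
    h2 (by rw [← e0, ← e2, ← e, ← k3]), h3 (by rw [← e1, ← e2, ← e, ← k2]), h3 (by rw [← e1, ← e2, ← e, ← k3]),
    h4 (by rw [← e1, ← e3, ← e, ← k2]), h4 (by rw [← e1, ← e3, ← e, ← k3])]

theorem plane_ag [Finite G] (t : TT D) {a b c : D} (h1 : ¬ Commute (a : G) b) (h2 : ¬ Commute (a : G) c)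
    (h3 : ¬ Commute (b : G) c) (h4 : ¬ Commute ((a : G) * b * a) c) (h5 : (b : G) ≠ a * c * (a : G)⁻¹) :
    Isomorphic (restrict (threeTranspositionLines D) (span (threeTranspositionLines D) (ln a b ∪ ln a c)))
      affinePlaneThree := by
  obtain ⟨f, hf, hop, hT, e0, e1, e2⟩ := ag_points t a.2 b.2 c.2 h1 h2 h3 h4
  have ne := @ag_ne _ _ _ _ _ f hop hT e0 e1 e2 (fun e => h1 (e ▸ Commute.refl _)) (fun e => h2 (e ▸ Commute.refl _))
    (fun e => h3 (e ▸ Commute.refl _)) h5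
  have fa : (⟨f 0, hf _⟩ : D) = a := Subtype.ext e0
  have fb : (⟨f ![1, 0], hf _⟩ : D) = b := Subtype.ext e1
  have fc : (⟨f ![0, 1], hf _⟩ : D) = c := Subtype.ext e2
  refine iso_of t (fun p => ⟨f p, hf p⟩) (fun p q e => by_contra fun h => ne h (by
    rw [show f p = f q from congrArg Subtype.val e])) (fun q p => -p - q) hop (fun l => ?_) ?_ fun P hP hc y => ?_
  · rw [ag_iff]
    exact exists₂_congr fun p q => and_congr_left' ⟨ne, fun h e => h (e ▸ Commute.refl _)⟩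
  · rw [← fa, ← fb, ← fc]
    rintro z ((h | h | h) | h | h | h) <;> first | exact ⟨_, Subtype.ext h.symm⟩ | exact ⟨_, Subtype.ext ((hop _ _).trans h.symm)⟩
  · have pa := hP _ (Or.inl (Or.inl (congrArg Subtype.val fa)))
    have pb := hP _ (Or.inl (Or.inr (Or.inl (congrArg Subtype.val fb))))
    have pc := hP _ (Or.inr (Or.inr (Or.inl (congrArg Subtype.val fc))))
    have p1 := hc _ _ pa pb
    have p2 := hc _ _ pa pc
    have : ∀ y : Fin 2 → ZMod 3, y = 0 ∨ y = ![1, 0] ∨ y = ![0, 1] ∨ y = -0 - ![1, 0] ∨ y = -0 - ![0, 1] ∨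
        y = -![1, 0] - ![0, 1] ∨ y = -(-0 - ![1, 0]) - ![0, 1] ∨ y = -![1, 0] - (-0 - ![0, 1]) ∨
        y = -(-0 - ![1, 0]) - (-0 - ![0, 1]) := by decide +kernel
    rcases this y with rfl | rfl | rfl | rfl | rfl | rfl | rfl | rfl | rfl
    exacts [pa, pb, pc, p1, p2, hc _ _ pb pc, hc _ _ p1 pc, hc _ _ pb p2, hc _ _ p1 p2]

end Cfsg.Agent.Tr3
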