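import Cfsg.Agent.Lib.Tr3.Basic

/-! General theory of 3-transpositions: components, primitivity. -/

set_option autoImplicit false
set_option linter.unusedSectionVars false
set_option linter.unusedVariables false
set_option linter.style.longLine false

namespace Cfsg.Agent.Tr3

open Subgroup Cfsg.Agent.Fi Cfsg.Agent.Comp
open scoped commutatorElement

universe u
variable {G : Type u} [Group G] [Finite G] {D : Set G}

/-- perfect, and the solvable normal subgroups are central -/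
structure SemiS (L : Subgroup G) : Prop where
  perf : ⁅L, L⁆ = L
  cen : ∀ X, X ≤ L → L ≤ normalizer (X : Set G) → Group.IsSolvable X → X ≤ centralizer (L : Set G)

theorem semiS_qs {L : Subgroup G} (h : QS L) : SemiS L :=
  ⟨h.perfect, fun X h1 h2 h3 => (h.normal X h1 h2).resolve_left fun e => h.not_isSolvable (e ▸ h3)⟩

theorem semiS_lay (M : Subgroup G) : SemiS (Comp.Lay M) :=
  ⟨Lay_perfect M, fun X h1 h2 h3 => le_centralizer_Lay_of_isSolvable (h1.trans (Lay_le M)) h2 h3⟩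

theorem SemiS.cent {L : Subgroup G} (hL : SemiS L) (h : TT D) {d : G} (hd : d ∈ D) (hn : d ∈ normalizer (L : Set G))
    {p : ℕ} [Fact p.Prime] (hP : IsPGroup p (Pr {e | ∃ x ∈ L, e = x * d * x⁻¹})) : ∀ x ∈ L, Commute d x := by
  have h1 : ⁅zpowers d, L⁆ ≤ Pr {e | ∃ x ∈ L, e = x * d * x⁻¹} := by
    refine commutator_zpowers_left_le (mem_normalizer_Pr ?_) fun c hc => ?_
    · rintro _ ⟨x, hx, rfl⟩
      exact ⟨_, conj_mem_of_mem_normalizer hn hx, by group⟩
    · have := mul_mem_Pr (B := {e | ∃ x ∈ L, e = x * d * x⁻¹}) (a := d) ⟨1, one_mem _, by simp⟩ ⟨c, hc, rfl⟩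
      rw [commutatorElement_def, h.inv hd]
      simpa only [mul_assoc] using this
  have h2 := hL.cen _ (commutator_le_right_of_le_normalizer (zpowers_le.2 hn))
    (le_sup_right.trans (sup_le_normalizer_commutator _ _)) (by
      haveI := (hP.to_le h1).isNilpotent
      infer_instance)
  have h3 := commutator_eq_bot_of_perfect hL.perf (commutator_eq_bot_iff_le_centralizer.2 h2)
  intro x hx
  exact (mem_centralizer_iff.1 (commutator_eq_bot_iff_le_centralizer.1 h3 (mem_zpowers d)) x hx).symm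

theorem SemiS.three {L : Subgroup G} (hL : SemiS L) (h : TT D) {d : G} (hd : d ∈ D) (hn : d ∈ normalizer (L : Set G))
    (hc : ¬ ∀ x ∈ L, Commute d x) : ∃ x ∈ L, ¬ Commute d (x * d * x⁻¹) := by
  by_contra hn'
  push Not at hn'
  refine hc (hL.cent h hd hn (p := 2) (Pr_two h ?_ ?_))
  · rintro _ ⟨x, -, rfl⟩; exact h.conj x d hd
  · rintro _ ⟨x, hx, rfl⟩ _ ⟨y, hy, rfl⟩
    rw [commute_conj_left]
    simpa [mul_assoc] using hn' _ (mul_mem (inv_mem hx) hy)

theorem SemiS.two {L : Subgroup G} (hL : SemiS L) (h : TT D) {d : G} (hd : d ∈ D) (hn : d ∈ normalizer (L : Set G))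
    (hc : ¬ ∀ x ∈ L, Commute d x) : ∃ x ∈ L, x * d * x⁻¹ ≠ d ∧ Commute d (x * d * x⁻¹) := by
  haveI : Fact (Nat.Prime 3) := ⟨by norm_num⟩
  by_contra hn'
  push Not at hn'
  refine hc (hL.cent h hd hn (p := 3) (Pr_three h ?_ ?_ ?_))
  · rintro _ ⟨x, -, rfl⟩; exact h.conj x d hd
  · rintro _ ⟨x, hx, rfl⟩ _ ⟨y, hy, rfl⟩ hc
    rw [commute_conj_left] at hc
    by_contra hne
    refine hn' _ (mul_mem (inv_mem hx) hy) (fun e => hne ?_) (by simpa [mul_assoc] using hc)
    calc x * d * x⁻¹ = x * (x⁻¹ * y * d * (x⁻¹ * y)⁻¹) * x⁻¹ := by rw [e]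
      _ = _ := by group
  · rintro _ ⟨x, hx, rfl⟩ _ ⟨y, hy, rfl⟩
    exact ⟨_, mul_mem hx (conj_mem_of_mem_normalizer hn (mul_mem (inv_mem hx) hy)), by group⟩

omit [Finite G] in
theorem nil_center : Group.IsNilpotent (center G) := by
  letI : CommGroup (center G) := { (inferInstance : Group (center G)) with
    mul_comm := fun a b => Subtype.ext (mem_center_iff.1 b.2 a) }
  infer_instance

theorem solvable_of_six {K : Subgroup G} (h : ∀ x ∈ K, x ^ 6 ∈ centralizer (K : Set G)) : Group.IsSolvable K := by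
  have h1 : Group.IsSolvable (K ⧸ center K) := by
    refine Solv.isSolvable_of_card_primeFactors_le_two ((Finset.card_le_card (t := {2, 3}) fun p hp => ?_).trans (by decide))
    haveI := Fact.mk (Nat.prime_of_mem_primeFactors hp)
    obtain ⟨x, hx⟩ := exists_prime_orderOf_dvd_card' p (Nat.dvd_of_mem_primeFactors hp)
    obtain ⟨x, rfl⟩ := QuotientGroup.mk_surjective x
    have : p ∣ 6 := by
      rw [← hx, orderOf_dvd_iff_pow_eq_one, ← QuotientGroup.mk_pow, QuotientGroup.eq_one_iff, mem_center_iff]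
      exact fun y => Subtype.ext (mem_centralizer_iff.1 (h x x.2) y y.2)
    have h2 := Nat.le_of_dvd (by norm_num) this
    have h3 := (Nat.prime_of_mem_primeFactors hp)
    interval_cases p <;> first | decide | (exfalso; revert h3; decide) | (exfalso; revert this; decide)
  haveI := nil_center (G := K)
  exact solvable_of_ker_le_range (center K).subtype (QuotientGroup.mk' (center K)) (by simp)

theorem pow_six (h : TT D) {x y : G} (hx : x ∈ D) (hy : y ∈ D) : (x * y) ^ 6 = 1 := by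
  by_cases hc : Commute x y
  · rw [show 6 = 2 * 3 from rfl, pow_mul, h.sq2 hx hy hc, one_pow]
  · rw [show 6 = 3 * 2 from rfl, pow_mul, h.cube hx hy hc, one_pow]

theorem comp_normal (h : TT D) (hg : closure D = ⊤) {K : Subgroup G} (hK : CompIn K ⊤) : K.Normal := by
  rw [normal_iff_top_le_normalizer, ← hg, closure_le]
  intro d hd
  refine hK.mem_normalizer_of_not_le (le_normalizer_normal _ ⊤ (mem_top d)) fun hc => hK.qs.not_isSolvable ?_
  refine solvable_of_six fun x hx => ?_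
  have hy : d * x * d⁻¹ ∈ centralizer (K : Set G) := hc (conj_mem_cj.2 hx)
  have h1 : Commute (d * x * d⁻¹) x⁻¹ := (mem_centralizer_iff.1 hy _ (inv_mem hx)).symm
  have h2 := pow_six h hd (h.conj x d hd)
  rw [show d * (x * d * x⁻¹) = d * x * d⁻¹ * x⁻¹ by rw [h.inv hd]; group, h1.mul_pow, inv_pow, mul_inv_eq_one] at h2
  rw [← h2]; exact pow_mem hy 6

theorem not_cent (h : IsThreeTranspositionClass D) {L : Subgroup G} [hN : L.Normal] (hp : ⁅L, L⁆ = L) (hb : L ≠ ⊥) {d : G}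
    (hd : d ∈ D) : ¬ ∀ x ∈ L, Commute d x := by
  intro hc
  have : L ≤ center G := (le_center_iff h.2.2).2 fun g hg e he => by
    obtain ⟨k, rfl⟩ := cls_conj h hd he
    exact (commute_conj_left.2 (hc _ (hN.conj_mem g hg k⁻¹))).symm
  exact hb (hp ▸ commutator_eq_bot_iff_le_centralizer.2 (this.trans (center_le_centralizer _)))

theorem fit_le_center (h : IsThreeTranspositionClass D) (h2 : pCore 2 G ≤ center G) (h3 : pCore 3 G ≤ center G) :
    Fit (⊤ : Subgroup G) ≤ center G := by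
  refine Fit_le_of_Op_le fun q hq => ?_
  rw [Op_top]
  by_cases q2 : q = 2
  · exact q2 ▸ h2
  by_cases q3 : q = 3
  · exact q3 ▸ h3
  have := hq.two_le
  exact (le_center_iff h.2.2).2 fun g hg d hd =>
    (cent_of_big (tt_cls h) hq (by omega) (isPGroup_pCore q) hd (le_normalizer_normal _ ⊤ (mem_top d)) hg).symm

theorem lay_ne_bot (h : IsThreeTranspositionClass D) (hD2 : ∃ a ∈ D, ∃ b ∈ D, a ≠ b) (h2 : pCore 2 G ≤ center G)
    (h3 : pCore 3 G ≤ center G) : Comp.Lay (⊤ : Subgroup G) ≠ ⊥ := by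
  intro hb
  have h1 : Fstar (⊤ : Subgroup G) ≤ center G := sup_le (hb ▸ bot_le) (fit_le_center h h2 h3)
  have h4 : (⊤ : Subgroup G) ≤ center G := (le_inf le_rfl fun x _ => mem_centralizer_iff.2 fun y hy =>
    (mem_center_iff.1 (h1 hy) x).symm).trans ((inf_centralizer_Fstar_le ⊤).trans h1)
  obtain ⟨a, ha, b, hb, hab⟩ := hD2
  exact hab (eq_of_central h ha hb (h4 (mem_top _)))

theorem lay_eq_bot_two (h : IsThreeTranspositionClass D) (h2 : ¬ pCore 2 G ≤ center G) :
    Comp.Lay (⊤ : Subgroup G) = ⊥ := by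
  have t := tt_cls h
  obtain ⟨d, hd, -⟩ := h.2.1
  by_contra hb
  obtain ⟨x, hx, hc⟩ := (semiS_lay ⊤).three t hd (le_normalizer_normal _ ⊤ (mem_top d)) (not_cent h (Lay_perfect _) hb hd)
  rw [two_central_iff h hd] at h2
  push Not at h2
  obtain ⟨v, hv, hvd⟩ := h2
  have hm := (RV_iff t hd hv.2.1).1 hv
  have h1 : Commute (d * v) (d * (x * d * x⁻¹)) :=
    (mem_centralizer_iff.1 (Op_le_centralizer_Lay 2 ⊤ (by rw [Op_top]; exact hm)) _ (mul_conj_mem t hd hx)).symm
  have h2 := ((Commute.refl d).mul_left hv.commute.symm).mul_right h1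
  rw [t.cancel hd] at h2
  exact t.s4_ne hd hv.2.1 (t.conj x d hd) (Ne.symm hvd) (fun e => hc e.symm)
    (fun e => hc ((hv.2.2 _ (t.conj x d hd)).1 e.symm)) (conj_eq_iff.2 h2)

theorem lay_eq_bot_three (h : IsThreeTranspositionClass D) (h3 : ¬ pCore 3 G ≤ center G) :
    Comp.Lay (⊤ : Subgroup G) = ⊥ := by
  haveI : Fact (Nat.Prime 3) := ⟨by norm_num⟩
  have t := tt_cls h
  obtain ⟨d, hd, -⟩ := h.2.1
  by_contra hb
  obtain ⟨x, hx, hn, hc⟩ := (semiS_lay ⊤).two t hd (le_normalizer_normal _ ⊤ (mem_top d)) (not_cent h (Lay_perfect _) hb hd)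
  rw [three_central_iff h hd] at h3
  push Not at h3
  obtain ⟨v, hv, hvd⟩ := h3
  have hm := (RW_iff t hd hv.2.1).1 hv
  have h1 : Commute (d * v) (d * (x * d * x⁻¹)) :=
    (mem_centralizer_iff.1 (Op_le_centralizer_Lay 3 ⊤ (by rw [Op_top]; exact hm)) _ (mul_conj_mem t hd hx)).symm
  have h2 := h1.mul_right (hc.mul_left ((hv.iff (t.conj x d hd)).1 ⟨hn, hc⟩).2)
  rw [mul_assoc, t.sq _ (t.conj x d hd), mul_one] at h2
  have h4 := (Commute.refl d).mul_left h2
  rw [t.cancel hd] at h4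
  exact hvd (hv.eq h4.symm).symm

theorem comp_unique (h : IsThreeTranspositionClass D) {K L : Subgroup G} (hK : CompIn K ⊤) (hL : CompIn L ⊤) : K = L := by
  by_contra hne
  have t := tt_cls h
  obtain ⟨d, hd, -⟩ := h.2.1
  haveI := comp_normal t h.2.2 hK
  haveI := comp_normal t h.2.2 hL
  obtain ⟨x, hx, hc⟩ := (semiS_qs hK.qs).three t hd (le_normalizer_normal _ ⊤ (mem_top d))
    (not_cent h hK.qs.perfect hK.qs.ne_bot hd)
  obtain ⟨y, hy, hn, hc'⟩ := (semiS_qs hL.qs).two t hd (le_normalizer_normal _ ⊤ (mem_top d))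
    (not_cent h hL.qs.perfect hL.qs.ne_bot hd)
  have hKL : ∀ a ∈ K, ∀ b ∈ L, Commute a b := fun a ha b hb =>
    (mem_centralizer_iff.1 (hK.le_centralizer_of_ne hL hne ha) b hb).symm
  have m1 := mul_conj_mem t hd hx
  have m2 := mul_conj_mem t hd hy
  have e : d * (y * x * d * (y * x)⁻¹) = d * (y * d * y⁻¹) * (d * (x * d * x⁻¹)) := by
    calc d * (y * x * d * (y * x)⁻¹) = d * y * d * (d * (x * d * x⁻¹) * y⁻¹) := by
          rw [mul_assoc (d * y), ← mul_assoc d (d * _), t.cancel hd]; group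
      _ = _ := by rw [(hKL _ m1 _ (inv_mem hy)).eq]; group
  have cm := (hKL _ m1 _ m2).symm
  have a2 := t.sq2 hd (t.conj y d hd) hc'
  have a3 := t.cube hd (t.conj x d hd) hc
  by_cases hz : Commute d (y * x * d * (y * x)⁻¹)
  · have := t.sq2 hd (t.conj _ d hd) hz
    rw [e, cm.mul_pow, a2, one_mul] at this
    rw [pow_succ, this, one_mul] at a3
    exact hc (eq_of_mul_eq_one' t hd a3 ▸ Commute.refl _)
  · have := t.cube hd (t.conj _ d hd) hz
    rw [e, cm.mul_pow, a3, mul_one, pow_succ, a2, one_mul] at this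
    exact hn (eq_of_mul_eq_one' t hd this).symm

theorem width_one_mod (h : IsThreeTranspositionClass D) {L : Subgroup G} [hN : L.Normal] (hL : QS L) {a b : G} (ha : a ∈ D)
    (hb : b ∈ D) (hm : a * b * a⁻¹ * b⁻¹ ∈ L) : a⁻¹ * b ∈ L := by
  have t := tt_cls h
  by_contra hn
  have key : ∀ x ∈ L, Commute (x * a * x⁻¹) b := by
    intro x hx
    by_contra hc
    have h3 := t.cube (t.conj x a ha) hb hc
    rw [t.inv ha, ← QuotientGroup.eq_one_iff] at hn
    rw [t.inv ha, t.inv hb, ← QuotientGroup.eq_one_iff] at hm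
    have := congrArg (QuotientGroup.mk (s := L)) h3
    simp only [pow_succ, pow_zero, one_mul, QuotientGroup.mk_mul, QuotientGroup.mk_inv, QuotientGroup.mk_one,
      (QuotientGroup.eq_one_iff x).2 hx, inv_one, mul_one] at this hm hn
    simp only [← mul_assoc, hm, one_mul] at this
    exact hn this
  have h0 : Commute a b := by simpa using key 1 (one_mem _)
  have h1 : ⁅L, zpowers a⁆ ≤ centralizer {b} := by
    rw [commutator_comm]
    refine commutator_zpowers_left_le (le_normalizer (Transfer.mem_centralizer_singleton'.2 h0)) fun c hc => ?_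
    rw [commutatorElement_def, t.inv ha, Transfer.mem_centralizer_singleton']
    simpa only [mul_assoc] using h0.mul_left (key c hc)
  rcases hL.commutator_eq_or (A := zpowers a) (le_normalizer_normal _ _) with e | e
  · exact not_cent h hL.perfect hL.ne_bot hb fun x hx => (Transfer.mem_centralizer_singleton'.1 (h1 (e.symm ▸ hx))).symm
  · exact not_cent h hL.perfect hL.ne_bot ha fun x hx =>
      (mem_centralizer_iff.1 (commutator_eq_bot_iff'.1 e (mem_zpowers a)) x hx).symm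

theorem exists_L (h : IsThreeTranspositionClass D) (hD2 : ∃ a ∈ D, ∃ b ∈ D, a ≠ b) (h2 : pCore 2 G ≤ center G)
    (h3 : pCore 3 G ≤ center G) : ∃ L : Subgroup G, L.Normal ∧ QS L ∧ generalizedFittingSubgroup G = L ⊔ center G := by
  have := lay_ne_bot h hD2 h2 h3
  rw [Ne, Lay_eq_bot_iff] at this
  push Not at this
  obtain ⟨K, hK⟩ := this
  refine ⟨K, comp_normal (tt_cls h) h.2.2 hK, hK.qs, ?_⟩
  rw [← Fstar_top, Fstar, le_antisymm (fit_le_center h h2 h3) (Fit_top (G := G) ▸ le_fitting nil_center),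
    le_antisymm (Lay_le_iff.2 fun L hL => (comp_unique h hL hK).le) hK.le_Lay]

omit [Finite G] in
theorem index_le_two_of {L : Subgroup G} [L.Normal] (h : TT D) (hg : closure D = ⊤) {d : G} (hd : d ∈ D)
    (hc : ∀ e ∈ D, d⁻¹ * e ∈ L) : L.index ≤ 2 := by
  have h1 : ∀ g : G, (g : G ⧸ L) = 1 ∨ (g : G ⧸ L) = d := by
    intro g
    have hg' : g ∈ closure D := hg ▸ mem_top g
    have dd : (d : G ⧸ L) * d = 1 := by rw [← QuotientGroup.mk_mul, h.sq d hd, QuotientGroup.mk_one]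
    induction hg' using closure_induction with
    | mem a ha => exact Or.inr (QuotientGroup.eq.2 (hc a ha)).symm
    | one => exact Or.inl rfl
    | mul a b _ _ h1 h2 => rcases h1 with h1 | h1 <;> rcases h2 with h2 | h2 <;> simp [h1, h2, dd]
    | inv a _ h1 => rcases h1 with h1 | h1 <;> simp [h1, inv_eq_of_mul_eq_one_left dd]
  rw [index, ← Set.ncard_univ]
  refine (Set.ncard_le_ncard (t := {1, (d : G ⧸ L)}) (fun x _ => ?_) (Set.toFinite _)).trans (Set.ncard_insert_le _ _ |>.trans (by simp))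
  obtain ⟨g, rfl⟩ := QuotientGroup.mk_surjective x
  exact h1 g

theorem mem_or_of_index {L : Subgroup G} [L.Normal] (h : L.index ≤ 2) {x y : G} (hx : x ∉ L) (hy : y ∉ L) :
    x * y⁻¹ ∈ L := by
  have h0 := L.index_ne_zero_of_finite
  have h1 : L.index ≠ 1 := fun e => hx (index_eq_one.1 e ▸ mem_top x)
  exact (mul_mem_iff_of_index_two (by omega)).2 (by simp [hx, hy])

omit [Finite G] in
theorem reach_ind {P : G → Prop} (hs : ∀ a ∈ D, ∀ b ∈ D, Commute a b → P a → P b) {a b : D}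
    (h : (commutingGraph D).Reachable a b) (ha : P a) : P b := by
  rw [SimpleGraph.reachable_iff_reflTransGen] at h
  induction h with
  | refl => exact ha
  | tail _ h2 ih =>
    rw [commutingGraph, SimpleGraph.fromRel_adj] at h2
    exact hs _ (Subtype.prop _) _ (Subtype.prop _) (h2.2.elim id Commute.symm) ih

theorem index_of_conn (h : IsThreeTranspositionClass D) {L : Subgroup G} [L.Normal] (hL : QS L)
    (hc : (commutingGraph D).Connected) : L.index ≤ 2 := by
  obtain ⟨d, hd, -⟩ := h.2.1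
  refine index_le_two_of (tt_cls h) h.2.2 hd fun e he => ?_
  refine reach_ind (P := fun e => d⁻¹ * e ∈ L) (fun a ha b hb hab h1 => ?_) (hc ⟨d, hd⟩ ⟨e, he⟩) (by simp)
  have := mul_mem h1 (width_one_mod h hL ha hb (by rw [hab.eq]; simp))
  simpa [mul_assoc] using this

/-- primitivity in terms of invariant equivalence relations -/
theorem prim_of (h : IsThreeTranspositionClass D) (hD2 : ∃ a ∈ D, ∃ b ∈ D, a ≠ b)
    (H : ∀ r, Eqv D r → (∀ a b, r a b → a = b) ∨ ∀ a ∈ D, ∀ b ∈ D, r a b) : IsPrimitiveUnderConj D := by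
  refine ⟨fun a ha b hb => cls_conj h ha hb, hD2, fun B hB hb => ?_⟩
  have t := tt_cls h
  by_contra hn
  push Not at hn
  obtain ⟨⟨a, ha, b, hb', hab⟩, hBD⟩ := hn
  have key : ∀ g : G, ∀ x ∈ B, g * x * g⁻¹ ∈ B → ∀ y ∈ B, g * y * g⁻¹ ∈ B := fun g x hx h1 y hy => by
    rcases hb g with e | e
    · rw [← e]; exact ⟨y, hy, rfl⟩
    · exact absurd h1 (Set.disjoint_left.1 e ⟨x, hx, rfl⟩)
  have E : Eqv D fun x y => ∃ g : G, g * x * g⁻¹ ∈ B ∧ g * y * g⁻¹ ∈ B :=
    ⟨fun ⟨g, h1, _⟩ => by simpa [mul_assoc] using t.conj g⁻¹ _ (hB h1), fun hx => by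
      obtain ⟨g, e⟩ := cls_conj h hx (hB ha)
      exact ⟨g, e ▸ ha, e ▸ ha⟩, fun ⟨g, h1, h2⟩ => ⟨g, h2, h1⟩, fun ⟨g, h1, h2⟩ ⟨k, h3, h4⟩ => ⟨g, h1, by
      simpa [mul_assoc] using key (g * k⁻¹) _ h3 (by simpa [mul_assoc] using h2) _ h4⟩,
      fun g _ _ ⟨k, h1, h2⟩ => ⟨k * g⁻¹, by simpa [mul_assoc] using h1, by simpa [mul_assoc] using h2⟩⟩
  rcases H _ E with e | e
  · exact hab (e a b ⟨1, by simpa using ha, by simpa using hb'⟩)
  · refine hBD (Set.Subset.antisymm hB fun x hx => ?_)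
    obtain ⟨g, h1, h2⟩ := e a (hB ha) x hx
    simpa [mul_assoc] using key g⁻¹ _ h1 (by simpa [mul_assoc] using ha) _ h2

omit [Finite G] in
theorem Eqv.prim {r : G → G → Prop} (E : Eqv D r) (hp : IsPrimitiveUnderConj D) :
    (∀ a b, r a b → a = b) ∨ ∀ a ∈ D, ∀ b ∈ D, r a b := by
  by_contra hn
  push Not at hn
  obtain ⟨⟨a, b, hab, hne⟩, c, hc, e, he, hce⟩ := hn
  refine (hp.2.2 {x | r a x} (fun x hx => E.mem (E.symm hx)) (fun g => ?_)).elim (fun h => ?_) (fun h => ?_)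
  rotate_left
  · exact hne (h (E.refl (E.mem hab)) hab)
  · exact hce (E.trans (E.symm (h.symm.subset hc)) (h.symm.subset he))
  · rw [or_iff_not_imp_right, Set.not_disjoint_iff]
    rintro ⟨_, ⟨x, hx, rfl⟩, h2⟩
    have h3 : r a (g * a * g⁻¹) := E.trans h2 (E.conj g (E.symm hx))
    refine Set.ext fun y => ⟨?_, fun hy => ⟨g⁻¹ * y * g⁻¹⁻¹, ?_, by simp [mul_assoc]⟩⟩
    · rintro ⟨z, hz, rfl⟩
      exact E.trans h3 (E.conj g hz)
    · simpa [mul_assoc] using E.conj g⁻¹ (E.trans (E.symm h3) hy)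

theorem prim_of_index (h : IsThreeTranspositionClass D) (hD2 : ∃ a ∈ D, ∃ b ∈ D, a ≠ b) {L : Subgroup G} [hN : L.Normal]
    (hL : QS L) (hi : L.index ≤ 2) (hc : centralizer (L : Set G) ≤ center G) : IsPrimitiveUnderConj D := by
  have t := tt_cls h
  refine prim_of h hD2 fun r E => ?_
  let K : Subgroup G :=
    { carrier := {g | ∀ c ∈ D, r c (g * c * g⁻¹)}
      one_mem' := fun c hc => by simpa using E.refl hc
      mul_mem' := fun {a b} ha hb c hc => by
        simpa [mul_assoc] using E.trans (hb c hc) (ha _ (t.conj b c hc))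
      inv_mem' := fun {a} ha c hc => by
        simpa [mul_assoc] using E.symm (ha _ (t.conj a⁻¹ c hc)) }
  haveI hK : K.Normal := ⟨fun a ha g c hc => by
    simpa [mul_assoc] using E.conj g (ha _ (t.conj g⁻¹ c hc))⟩
  rcases hL.normal (K ⊓ L) inf_le_right (le_normalizer_normal _ _) with e | e
  · right
    have hLK : L ≤ K := e ▸ inf_le_left
    intro a ha b hb
    obtain ⟨g, rfl⟩ := cls_conj h ha hb
    by_cases hg : g ∈ L
    · exact hLK hg a ha
    by_cases ha' : a ∈ L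
    · refine absurd ?_ hg
      have : closure D ≤ L := (closure_le _).2 fun x hx => by
        obtain ⟨k, rfl⟩ := cls_conj h ha hx
        exact hN.conj_mem a ha' k
      exact this (h.2.2 ▸ mem_top g)
    · simpa [mul_assoc] using hLK (mem_or_of_index hi hg ha') a ha
  · left
    have h1 : ⁅K, L⁆ = ⊥ := commutator_eq_bot_of_perfect hL.perfect
      (commutator_eq_bot_iff_le_centralizer.2 ((commutator_le_inf K L).trans e))
    intro a b hab
    have hb := E.mem (E.symm hab)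
    exact eq_of_central h (E.mem hab) hb (hc (commutator_eq_bot_iff_le_centralizer.1 h1
      fun c hc => E.fix t hab (E.refl hc)))

theorem exists_nc_pair (h : IsThreeTranspositionClass D) (hD2 : ∃ a ∈ D, ∃ b ∈ D, a ≠ b) :
    ∃ a ∈ D, ∃ b ∈ D, ¬ Commute a b := by
  obtain ⟨d, hd, -⟩ := h.2.1
  obtain ⟨c, hc, h1⟩ := exists_nc h hD2 hd
  exact ⟨c, hc, d, hd, h1⟩

theorem prim_two (h : IsThreeTranspositionClass D) (hp : IsPrimitiveUnderConj D) : pCore 2 G ≤ center G := by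
  obtain ⟨a, ha, b, hb, hc⟩ := exists_nc_pair h hp.2.1
  rcases (eqv_RV (tt_cls h)).prim hp with e | e
  · exact (two_central_iff h ha).2 fun v hv => (e _ _ hv).symm
  · exact absurd (e a ha b hb).commute hc

theorem prim_three (h : IsThreeTranspositionClass D) (hp : IsPrimitiveUnderConj D)
    (hw : ∃ a ∈ D, ∃ b ∈ D, a ≠ b ∧ Commute a b) : pCore 3 G ≤ center G := by
  obtain ⟨a, ha, b, hb, hne, hc⟩ := hw
  rcases (eqv_RW (tt_cls h)).prim hp with e | e
  · exact (three_central_iff h ha).2 fun v hv => (e _ _ hv).symm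
  · exact absurd ((e a ha b hb).eq hc) hne

theorem prim_conn (h : IsThreeTranspositionClass D) (hp : IsPrimitiveUnderConj D)
    (hw : ∃ a ∈ D, ∃ b ∈ D, a ≠ b ∧ Commute a b) : (commutingGraph D).Connected := by
  have t := tt_cls h
  obtain ⟨a, ha, b, hb, hne, hc⟩ := hw
  have adj : ∀ {a b} (ha : a ∈ D) (hb : b ∈ D), Commute a b → (commutingGraph D).Reachable ⟨a, ha⟩ ⟨b, hb⟩ := by
    intro a b ha hb hc
    by_cases e : a = b
    · subst e; rfl
    · exact SimpleGraph.Adj.reachable (by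
        rw [commutingGraph, SimpleGraph.fromRel_adj]; exact ⟨fun e' => e (congrArg Subtype.val e'), Or.inl hc⟩)
  have E : Eqv D fun x y => ∃ (hx : x ∈ D) (hy : y ∈ D), (commutingGraph D).Reachable ⟨x, hx⟩ ⟨y, hy⟩ :=
    ⟨fun ⟨h, _⟩ => h, fun h => ⟨h, h, .rfl⟩, fun ⟨h1, h2, h3⟩ => ⟨h2, h1, h3.symm⟩,
      fun ⟨h1, _, h3⟩ ⟨_, h4, h5⟩ => ⟨h1, h4, h3.trans h5⟩, fun g x y ⟨h1, h2, h3⟩ => ⟨t.conj g _ h1, t.conj g _ h2,
        reach_ind (P := fun z => ∀ hz, (commutingGraph D).Reachable ⟨_, t.conj g _ h1⟩ ⟨g * z * g⁻¹, hz⟩)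
          (fun a ha b hb hc h4 hz => (h4 (t.conj g a ha)).trans (adj _ _ (commute_conj_iff.2 hc))) h3 (fun _ => .rfl) _⟩⟩
  rcases E.prim hp with e | e
  · exact absurd (e a b ⟨ha, hb, adj ha hb hc⟩) hne
  · haveI : Nonempty D := ⟨⟨a, ha⟩⟩
    exact ⟨fun x y => (e x x.2 y y.2).2.2⟩

/-- a module of the commuting graph -/
def Md (D M : Set G) : Prop := M ⊆ D ∧ ∀ e ∈ D, e ∉ M → ∀ a ∈ M, ∀ b ∈ M, Commute e a → Commute e b

theorem md_trivial (h : IsThreeTranspositionClass D) (hp : IsPrimitiveUnderConj D) (hc : (commutingGraph D).Connected)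
    {M : Set G} (hM : Md D M) : M.Subsingleton ∨ M = D := by
  have t := tt_cls h
  by_contra hn
  push Not at hn
  obtain ⟨B, ⟨hB, hBD⟩, hmax⟩ := Set.exists_max_image {B | Md D B ∧ B ≠ D} Set.ncard (Set.toFinite _) ⟨M, hM, hn.2⟩
  have hcj : ∀ g : G, Md D ((fun x => g * x * g⁻¹) '' B) := fun g => by
    refine ⟨?_, ?_⟩
    · rintro _ ⟨x, hx, rfl⟩; exact t.conj g x (hB.1 hx)
    · rintro e he hn _ ⟨a, ha, rfl⟩ _ ⟨b, hb, rfl⟩ h1
      exact (commute_conj_left.2 (hB.2 _ (t.conj g⁻¹ e he) (fun h2 => hn ⟨_, h2, by simp [mul_assoc]⟩) a ha b hb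
        (commute_conj_left.1 h1.symm).symm).symm).symm
  refine (hp.2.2 B hB.1 (fun g => ?_)).elim (fun e => ?_) (fun e => ?_)
  rotate_left
  · have h1 := hmax M ⟨hM, hn.2⟩
    have h2 := (Set.ncard_le_one (Set.toFinite B)).2 e
    have h3 := (Set.one_lt_ncard_iff_nontrivial (s := M)).2 hn.1
    omega
  · exact hBD e
  set C := (fun x => g * x * g⁻¹) '' B with hC
  have hC' := hcj g
  rw [← hC] at hC'
  have hcard : C.ncard = B.ncard := Set.ncard_image_of_injective _ fun x y e => conj_inj'.1 e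
  by_contra hn'
  push Not at hn'
  obtain ⟨z, hzC, hzB⟩ := Set.not_disjoint_iff.1 hn'.2
  have hU : Md D (B ∪ C) := ⟨Set.union_subset hB.1 hC'.1, fun e he hn a ha b hb h1 => by
    have n1 : e ∉ B := fun h => hn (Or.inl h)
    have n2 : e ∉ C := fun h => hn (Or.inr h)
    have hz : Commute e z := ha.elim (fun ha => hB.2 e he n1 a ha z hzB h1) fun ha => hC'.2 e he n2 a ha z hzC h1
    exact hb.elim (fun hb => hB.2 e he n1 z hzB b hb hz) fun hb => hC'.2 e he n2 z hzC b hb hz⟩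
  have n1 : ¬ C ⊆ B := fun h1 => hn'.1 (Set.eq_of_subset_of_ncard_le h1 hcard.ge (Set.toFinite _))
  have n2 : ¬ B ⊆ C := fun h1 => hn'.1 (Set.eq_of_subset_of_ncard_le h1 hcard.le (Set.toFinite _)).symm
  have hUD : B ∪ C = D := by
    by_contra hne
    exact n1 (Set.subset_union_right.trans (Set.eq_of_subset_of_ncard_le Set.subset_union_left (hmax _ ⟨hU, hne⟩)
      (Set.toFinite _)).symm.subset)
  obtain ⟨c, hcC, hcB⟩ := Set.not_subset.1 n1
  obtain ⟨b, hbB, hbC⟩ := Set.not_subset.1 n2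
  have mB : ∀ x ∈ D, x ∉ C → x ∈ B := fun x hx h1 => (hUD.symm.subset hx).resolve_right h1
  have key : ∀ x ∈ D, x ∉ C → ∀ y ∈ C, (Commute x y ↔ Commute b c) := fun x hx hxC y hy =>
    ⟨fun h1 => (hB.2 c (hC'.1 hcC) hcB x (mB x hx hxC) b hbB (hC'.2 x hx hxC y hy c hcC h1).symm).symm,
      fun h1 => hC'.2 x hx hxC c hcC y hy (hB.2 c (hC'.1 hcC) hcB b hbB x (mB x hx hxC) h1.symm).symm⟩
  by_cases hbc : Commute b c
  · have : closure D ≤ normalizer C := (closure_le _).2 fun d hd => by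
      have h1 : ∀ y ∈ C, d * y * d⁻¹ ∈ C := fun y hy => by
        by_cases hdC : d ∈ C
        · by_contra h2
          have := (key _ (t.conj d y (hC'.1 hy)) h2 d hdC).2 hbc
          rw [commute_conj_left, inv_mul_cancel, one_mul, inv_inv] at this
          rw [conj_eq_iff.2 this.symm] at h2
          exact h2 hy
        · rw [conj_eq_iff.2 ((key d hd hdC y hy).2 hbc)]; exact hy
      refine mem_set_normalizer_iff.2 fun y => ⟨h1 y, fun hy => ?_⟩
      simpa [mul_assoc, t.inv hd, t.cancel hd, t.sq d hd] using h1 _ hy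
    obtain ⟨k, rfl⟩ := cls_conj h (hC'.1 hcC) (hB.1 hbB)
    exact hbC ((mem_set_normalizer_iff.1 (this (h.2.2 ▸ mem_top k)) c).1 hcC)
  · refine hbC (reach_ind (P := fun x => x ∈ C) (fun x hx y hy h1 h2 => ?_) (hc ⟨c, hC'.1 hcC⟩ ⟨b, hB.1 hbB⟩) hcC)
    by_contra h3
    exact hbc ((key y hy h3 x h2).1 h1.symm)

theorem max_dsub (h : IsThreeTranspositionClass D) (hp : IsPrimitiveUnderConj D) (hc : (commutingGraph D).Connected)
    {d : G} (hd : d ∈ D) {H : Subgroup G} (hH : IsDSubgroup D H) (h1 : closure {y : G | y ∈ D ∧ Commute d y} ≤ H) :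
    H = closure {y : G | y ∈ D ∧ Commute d y} ∨ H = ⊤ := by
  have t := tt_cls h
  have hdH : d ∈ H := h1 (subset_closure ⟨hd, Commute.refl d⟩)
  refine (md_trivial h hp hc (M := {x | ∃ g ∈ H, x = g * d * g⁻¹}) ⟨?_, ?_⟩).elim (fun e => ?_) (fun e => ?_)
  rotate_left 2
  · refine Or.inl (le_antisymm (hH.symm.le.trans (closure_mono fun x hx => ⟨hx.1, ?_⟩)) h1)
    by_contra hn
    have := e ⟨1, one_mem _, rfl⟩ ⟨_, mul_mem hdH hx.2, (t.swap hd hx.1 hn).symm⟩
    rw [one_mul, inv_one, mul_one] at this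
    exact hn (this ▸ Commute.refl d)
  · refine Or.inr (eq_top_iff.2 (h.2.2 ▸ (closure_le _).2 fun x hx => ?_))
    obtain ⟨g, hg, rfl⟩ := e.symm.subset hx
    exact mul_mem (mul_mem hg hdH) (inv_mem hg)
  · rintro _ ⟨g, -, rfl⟩; exact t.conj g d hd
  · rintro e he hn _ ⟨g, hg, rfl⟩ _ ⟨k, hk, rfl⟩ h2
    have heH : e ∈ H := by
      have := h1 (subset_closure ⟨t.conj g⁻¹ e he, commute_conj_left.1 h2.symm⟩)
      simpa [mul_assoc] using mul_mem (mul_mem hg this) (inv_mem hg)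
    by_contra h3
    have := t.swap (t.conj k d hd) he fun h => h3 h.symm
    exact hn ⟨k * d * k⁻¹ * e * k, mul_mem (mul_mem (mul_mem (mul_mem hk hdH) (inv_mem hk)) heH) hk, by
      nth_rw 1 [← this]; group⟩

end Cfsg.Agent.Tr3
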