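import Cfsg.Agent.Lib.Tr3.Small

/-! Primitive 3-transposition groups in which `O₃(⟨D_x⟩)` is not central. -/

set_option autoImplicit false
set_option linter.unusedSectionVars false
set_option linter.unusedVariables false
set_option linter.style.longLine false

namespace Cfsg.Agent.Tr3

open Subgroup Cfsg.Agent.Fi Cfsg.Agent.Comp Equiv

/-- integrality condition for strongly regular graphs -/
theorem srg_int {V : Type*} [Fintype V] {Γ : SimpleGraph V} [DecidableRel Γ.Adj] {n k l μ : ℕ} (h : Γ.IsSRGWith n k l μ)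
    (hn : 0 < n) : (k : ℝ) ^ 2 = k + l * k + μ * (n - 1 - k) ∧ ∀ s : ℝ, s ≠ 0 → s ^ 2 = ((μ : ℝ) - l) ^ 2 + 4 * (k - μ) →
      ∃ m : ℤ, m * s = ((μ : ℝ) - l) * (n - 1) - 2 * k := by
  classical
  set A := Γ.adjMatrix ℝ with hA
  let J : Matrix V V ℝ := Matrix.of fun _ _ => 1
  have h1 : A * J = (k : ℝ) • J := by
    ext v w; simp [hA, J, h.regular.degree_eq]
  have h2 : J * A = (k : ℝ) • J := by
    ext v w; simp [hA, J, h.regular.degree_eq]
  have h3 : J * J = (n : ℝ) • J := by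
    ext v w; simp [J, Matrix.mul_apply, h.card]
  have h4 : A * A = (k : ℝ) • (1 : Matrix V V ℝ) + (l : ℝ) • A + (μ : ℝ) • (J - 1 - A) := by
    rw [← pow_two, h.matrix_eq]
    ext v w
    simp only [← Nat.cast_smul_eq_nsmul ℝ, Matrix.add_apply, Matrix.smul_apply, Matrix.sub_apply]
    by_cases e : v = w
    · subst e; simp [J, hA]
    · by_cases a : Γ.Adj v w <;> simp [e, a, J, hA]
  obtain ⟨v⟩ : Nonempty V := Fintype.card_pos_iff.1 (h.card ▸ hn)
  have h5 : (k : ℝ) ^ 2 = k + l * k + μ * (n - 1 - k) := by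
    have := congrArg (· * J) h4
    simp only [mul_assoc, h1, add_mul, sub_mul, h3, smul_mul_assoc, mul_smul_comm, one_mul] at this
    have := congrFun (congrFun this v) v
    simp [J] at this
    linarith
  refine ⟨h5, fun s hs hs2 => ?_⟩
  have hn' : (n : ℝ) ≠ 0 := by positivity
  set θ : ℝ := (-((μ : ℝ) - l) - s) / 2 with hθ
  set c : ℝ := (k - θ) / n with hc
  let E : Matrix V V ℝ := s⁻¹ • (A - θ • 1 - c • J)
  have hE : E * E = E := by
    have : (A - θ • 1 - c • J) * (A - θ • 1 - c • J) = s • (A - θ • (1 : Matrix V V ℝ) - c • J) := by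
      simp only [sub_mul, mul_sub, smul_mul_assoc, mul_smul_comm, h1, h2, h3, h4, one_mul, mul_one]
      have e1 : (k : ℝ) - μ + θ * θ = - (s * θ) := by rw [hθ]; nlinarith
      have e2 : (l : ℝ) - μ - 2 * θ = s := by rw [hθ]; ring
      have e3 : (μ : ℝ) - 2 * c * (k - θ) + c * c * n = - (s * c) := by
        rw [hc]; field_simp; rw [hθ]; nlinarith
      ext a b
      simp only [Matrix.sub_apply, Matrix.add_apply, Matrix.smul_apply, smul_eq_mul]
      linear_combination (1 : Matrix V V ℝ) a b * e1 + A a b * e2 + J a b * e3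
    simp only [E, smul_mul_assoc, mul_smul_comm, this, smul_smul, inv_mul_cancel₀ hs, mul_one]
  have hI : IsIdempotentElem (Matrix.toLin' E) := by
    rw [IsIdempotentElem, Module.End.mul_eq_comp, ← Matrix.toLin'_mul, hE]
  have ht := (LinearMap.IsIdempotentElem.isProj_range _ hI).trace
  rw [Matrix.trace_toLin'_eq] at ht
  generalize Module.finrank ℝ (LinearMap.range (Matrix.toLin' E)) = r at ht
  simp only [E, Matrix.trace_smul, Matrix.trace_sub, Matrix.trace_one, h.card, hA, SimpleGraph.trace_adjMatrix,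
    smul_eq_mul] at ht
  have tJ : J.trace = n := by simp [J, Matrix.trace, h.card]
  rw [tJ, hc, div_mul_cancel₀ _ hn'] at ht
  refine ⟨2 * r - (n - 1), ?_⟩
  push_cast
  rw [← ht, hθ]; field_simp; ring

theorem sq_ne_three_pow (b : ℕ) : ∀ w t : ℤ, t ^ 2 = 3 ^ b * w → w % 3 ≠ 2 := by
  induction b using Nat.strong_induction_on with
  | _ b ih =>
    intro w t h hw
    rcases b with _ | b
    · have : t % 3 = 0 ∨ t % 3 = 1 ∨ t % 3 = 2 := by omega
      rw [pow_zero, one_mul] at h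
      rw [← h, pow_two, Int.mul_emod] at hw
      rcases this with e | e | e <;> simp [e] at hw
    obtain ⟨t, rfl⟩ : (3 : ℤ) ∣ t := Int.Prime.dvd_pow' (p := 3) (by norm_num) ⟨3 ^ b * w, by rw [h]; push_cast; ring⟩
    rcases b with _ | b
    · have : w = 3 * t ^ 2 := by norm_num at h; linarith [h]
      omega
    · exact ih b (by omega) w t (by have : 9 * t ^ 2 = 9 * (3 ^ b * w) := by linear_combination h
                                    linarith) hw

theorem srg_three {V : Type*} [Fintype V] {Γ : SimpleGraph V} [DecidableRel Γ.Adj] {n a b : ℕ}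
    (h : Γ.IsSRGWith n (3 ^ a) 0 (3 ^ b)) (hn : 0 < n) (hab : b < a) : a = 1 := by
  obtain ⟨c, rfl⟩ : ∃ c, a = b + (c + 1) := ⟨a - b - 1, by omega⟩
  obtain ⟨h1, h2⟩ := srg_int h hn
  have p1 : (1 : ℤ) ≤ 3 ^ b := one_le_pow₀ (by norm_num)
  have p2 : (1 : ℤ) ≤ 3 ^ c := one_le_pow₀ (by norm_num)
  set Δ : ℤ := 3 ^ b * (3 ^ b - 4 + 4 * 3 ^ (c + 1)) with hΔ
  have hpos : 0 < Δ := by rw [hΔ, pow_succ]; exact mul_pos (by omega) (by omega)
  obtain ⟨m, hm⟩ := h2 (√Δ) (Real.sqrt_ne_zero'.2 (by exact_mod_cast hpos)) (by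
    rw [Real.sq_sqrt (by exact_mod_cast hpos.le), hΔ]; push_cast; ring)
  set N : ℤ := 3 ^ (b + (c + 1)) * (3 ^ (b + (c + 1)) + 3 ^ b - 3) with hN
  have h3 : (m : ℝ) * √Δ = N := by rw [hm, hN]; push_cast at h1 ⊢; linear_combination -h1
  have h4 : m ^ 2 * Δ = N ^ 2 := by
    have := congrArg (· ^ 2) h3
    simp only [mul_pow] at this
    rw [Real.sq_sqrt (by exact_mod_cast hpos.le)] at this
    exact_mod_cast this
  have hN0 : 0 < N := by
    rw [hN, pow_add, pow_succ]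
    exact mul_pos (by positivity) (by nlinarith)
  have hm0 : m ≠ 0 := by rintro rfl; nlinarith
  obtain ⟨t, ht⟩ : IsSquare Δ := Rat.isSquare_intCast_iff.1 ⟨N / m, by
    have : (m : ℚ) ^ 2 * Δ = N ^ 2 := by exact_mod_cast h4
    field_simp; linarith⟩
  rcases b with _ | b
  · simp only [pow_zero, one_mul, zero_add] at hΔ hN ⊢
    have h5 : t ∣ N := (Int.pow_dvd_pow_iff (two_ne_zero)).1 ⟨m ^ 2, by rw [← h4, ht]; ring⟩
    have h6 : t ∣ 15 := by
      have : (15 : ℤ) = t * (t ^ 3 - 2 * t) - 16 * N := by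
        rw [hN]; have : t * t = 1 - 4 + 4 * 3 ^ (c + 1) := by rw [← ht, hΔ]
        linear_combination -(t * t + 4 * 3 ^ (c + 1) - 5) * this
      rw [this]; exact dvd_sub (Dvd.intro _ rfl) (h5.mul_left _)
    have h7 := Int.le_of_dvd (by norm_num) h6
    have h8 := Int.le_of_dvd (by norm_num) ((neg_dvd).2 h6)
    have h9 : t * t = 4 * 3 ^ (c + 1) - 3 := by rw [← ht, hΔ]; ring
    by_contra hc
    obtain ⟨c, rfl⟩ : ∃ c', c = c' + 1 := ⟨c - 1, by omega⟩
    rw [pow_succ, pow_succ] at h9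
    have h10 : -15 ≤ t := by omega
    interval_cases t <;> omega
  · refine absurd ?_ (sq_ne_three_pow (b + 1) (3 ^ (b + 1) - 4 + 4 * 3 ^ (c + 1)) t (by rw [← hΔ, ht]; ring))
    rw [pow_succ, pow_succ]; omega

universe u
variable {G : Type u} [Group G] {D : Set G}

theorem s5_hom (t : TT D) {a b c d : G} (ha : a ∈ D) (hb : b ∈ D) (hc : c ∈ D) (hd : d ∈ D) (h1 : ¬ Commute a b)
    (h2 : ¬ Commute b c) (h3 : ¬ Commute c d) (h4 : Commute a c) (h5 : Commute a d) (h6 : Commute b d) :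
    ∃ φ : Perm (Fin 5) →* G, φ (swap 0 1) = a ∧ φ (swap 1 2) = b ∧ φ (swap 2 3) = c ∧ φ (swap 3 4) = d := by
  obtain ⟨φ, hφ⟩ := PC.CoxA.hom (s := fun i => [a, b, c, d].getD i 1) (m := 4) ⟨fun i hi => by
    interval_cases i
    exacts [t.sq a ha, t.sq b hb, t.sq c hc, t.sq d hd], fun i hi => by
    have : i < 3 := by omega
    interval_cases i
    exacts [t.braid a ha b hb h1, t.braid b hb c hc h2, t.braid c hc d hd h3], fun i j h1 h2 => by
    have : i < 2 := by omega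
    interval_cases i <;> interval_cases j
    exacts [h4, h5, h6]⟩
  exact ⟨φ, hφ 0 (by norm_num), hφ 1 (by norm_num), hφ 2 (by norm_num), hφ 3 (by norm_num)⟩

theorem tt_sub (t : TT D) {S : Set G} (hS : S ⊆ D) {H : Subgroup G} (h : ∀ g ∈ H, ∀ s ∈ S, g * s * g⁻¹ ∈ S) :
    TT {y : H | (y : G) ∈ S} :=
  ⟨fun x hx => Subtype.ext (t.sq x (hS hx)), fun x hx e => t.ne x (hS hx) (congrArg Subtype.val e),
    fun g x hx => h g g.2 x hx, fun x hx y hy hn => Subtype.ext (t.braid x (hS hx) y (hS hy) fun e => hn (Subtype.ext e))⟩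

theorem RW_of_odd (h : TT D) {N : Subgroup G} [N.Normal] (hN : ∀ g ∈ N, g ^ 2 = 1 → g = 1) {a b : G} (ha : a ∈ D)
    (hb : b ∈ D) (hm : a * b ∈ N) : ∀ e ∈ D, e ≠ a ∧ Commute a e → e ≠ b ∧ Commute b e := by
  intro e he ⟨hn, hc⟩
  refine ⟨?_, ?_⟩
  · rintro rfl
    exact hn (eq_of_mul_eq_one' h ha (hN _ hm (h.sq2 ha he hc))).symm
  by_contra hbe
  refine hn (eq_of_mul_eq_one' h ha (hN _ ?_ (h.sq2 ha he hc))).symm
  rw [← QuotientGroup.eq_one_iff] at hm ⊢
  have e1 : ((a : G) : G ⧸ N) = b := by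
    rw [← h.inv ha, QuotientGroup.mk_inv]; exact inv_eq_of_mul_eq_one_right hm
  have e2 : ((a * e : G) : G ⧸ N) ^ 2 = 1 := by rw [← QuotientGroup.mk_pow, h.sq2 ha he hc, QuotientGroup.mk_one]
  have e3 : ((a * e : G) : G ⧸ N) ^ 3 = 1 := by
    rw [QuotientGroup.mk_mul, e1, ← QuotientGroup.mk_mul, ← QuotientGroup.mk_pow, h.cube hb he hbe, QuotientGroup.mk_one]
  rwa [pow_succ, e2, one_mul] at e3

theorem perp_conj (t : TT D) {d g : G} (hg : Commute g d) : ∀ x ∈ {y : G | y ∈ D ∧ y ≠ d ∧ Commute d y},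
    g * x * g⁻¹ ∈ {y : G | y ∈ D ∧ y ≠ d ∧ Commute d y} := fun x hx => ⟨t.conj g x hx.1, fun e => hx.2.1 (by
  rwa [← conj_eq_iff.2 hg, conj_inj'] at e), by rw [← conj_eq_iff.2 hg, commute_conj_iff]; exact hx.2.2⟩

variable [Finite G]

theorem ncard_three (h : TT D) {B : Set G} (hB : B ⊆ D) (hc : ∀ a ∈ B, ∀ b ∈ B, Commute a b → a = b)
    (hj : ∀ a ∈ B, ∀ b ∈ B, a * b * a⁻¹ ∈ B) {b : G} (hb : b ∈ B) : ∃ n, B.ncard = 3 ^ n := by
  haveI : Fact (Nat.Prime 3) := ⟨by norm_num⟩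
  obtain ⟨n, hn⟩ := (Pr_three h hB hc hj).card_orbit (show Cj G from b)
  refine ⟨n, ?_⟩
  rw [← hn, Nat.card_coe_set_eq]
  congr 1
  refine Set.ext fun x => ⟨fun hx => ?_, ?_⟩
  · by_cases e : Commute b x
    · exact hc b hb x hx e ▸ MulAction.mem_orbit_self _
    · exact ⟨⟨_, mul_mem_Pr hb hx⟩, h.swap (hB hb) (hB hx) e⟩
  · rintro ⟨⟨g, hg⟩, rfl⟩
    refine closure_conj_inv (S := B) (fun x hx => by rwa [h.inv (hB hx)]) hj g ((closure_le _).2 ?_ hg) b hb
    rintro _ ⟨a, ha, b, hb, rfl⟩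
    exact mul_mem (subset_closure ha) (subset_closure hb)

theorem PW.trifree (h : PW D) {x y y' : G} (hx : x ∈ D) (hy : y ∈ D) (hy' : y' ∈ D) (h1 : Commute x y) (h2 : Commute x y')
    (n1 : y ≠ x) (h3 : ¬ Commute y y') (H : ∀ e ∈ D, e ≠ x → Commute x e → e ≠ y → Commute y e → Commute y' e) :
    (∃ u ∈ D, u ≠ y ∧ Commute y u ∧ ¬ Commute y' u ∧ ¬ Commute u x) ∧
      ∀ s ∈ D, s ≠ y → Commute y s → Commute x s → s = x := by
  have t := h.tt
  set E := {e : G | e ∈ D ∧ e ≠ y ∧ Commute y e} with hE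
  have hxE : x ∈ E := ⟨hx, n1.symm, h1.symm⟩
  have ha : ∀ u ∈ E, ¬ Commute y' u → ¬ Commute u x := fun u hu h4 h5 =>
    h4 (H u hu.1 (fun e => h4 (e ▸ h2.symm)) h5.symm hu.2.1 hu.2.2)
  let r : G → Prop := fun b => b ∈ E ∧ ∀ e ∈ E, (e ≠ x ∧ Commute x e) ↔ (e ≠ b ∧ Commute b e)
  have hb : ∀ u ∈ E, ¬ Commute y' u → r u := fun u hu h4 => by
    have h5 := ha u hu h4
    obtain ⟨φ, e0, e1, e2, e3⟩ := s5_hom t hy hy' hu.1 hx h3 h4 h5 hu.2.2 h1.symm h2.symm
    have sub : {e | e ∈ D ∧ (e ≠ y ∧ Commute y e) ∧ e ≠ x ∧ Commute x e} ⊆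
        {e | e ∈ D ∧ (e ≠ y ∧ Commute y e) ∧ e ≠ u ∧ Commute u e} := fun s hs => by
      refine ⟨hs.1, hs.2.1, fun e => h5 (e ▸ hs.2.2.2.symm), ?_⟩
      by_contra h6
      set g := φ (swap 0 3 * swap 1 4) with hg
      have g1 : g * x * g⁻¹ = y := by rw [← e3, ← e0, hg]; simp only [← map_mul, ← map_inv]; exact congrArg φ (by decide)
      have g2 : g * y * g⁻¹ = x := by rw [← e3, ← e0, hg]; simp only [← map_mul, ← map_inv]; exact congrArg φ (by decide)
      have g3 : g * u * g⁻¹ = y * y' * y⁻¹ := by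
        rw [← e2, ← e1, ← e0, hg]; simp only [← map_mul, ← map_inv]; exact congrArg φ (by decide)
      have c1 : Commute y (g * s * g⁻¹) := g1 ▸ commute_conj_iff.2 hs.2.2.2
      have := H _ (t.conj g s hs.1) (fun e => hs.2.1.1 (conj_inj'.1 (e.trans g2.symm))) (g2 ▸ commute_conj_iff.2 hs.2.1.2)
        (fun e => hs.2.2.1 (conj_inj'.1 (e.trans g1.symm))) c1
      exact h6 (commute_conj_iff.1 (g3 ▸ (c1.mul_left this).mul_left c1.inv_left))
    have cg : Commute (x * u) y := h1.mul_left hu.2.2.symm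
    have := Set.eq_of_subset_of_ncard_le sub (ncard_conj t (fun a e => (e ≠ y ∧ Commute y e) ∧ e ≠ a ∧ Commute a e) (x * u)
      fun e => by
        have k1 := @conj_inj' _ _ (x * u) e
        have k2 := fun z => @commute_conj_iff _ _ (x * u) z e
        have a1 := @k1 x; have a2 := @k1 y; have a3 := k2 x; have a4 := k2 y
        rw [t.swap hx hu.1 fun h => h5 h.symm] at a1 a3
        rw [conj_eq_iff.2 cg] at a2 a4
        simp only [Ne, a1, a2, a3, a4]).ge
    exact ⟨hu, fun e he => ⟨fun h => (sub ⟨he.1, he.2, h⟩).2.2, fun h => (this.symm.subset ⟨he.1, he.2, h⟩).2.2⟩⟩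
  obtain ⟨u, hu, h4⟩ : ∃ u ∈ E, ¬ Commute y' u := by
    by_contra hn
    push Not at hn
    exact h3 (h.eq_of_subW hy hy' (fun e he a b => ⟨fun e' => h3 (e' ▸ b), hn e ⟨he, a, b⟩⟩) ▸ Commute.refl _)
  refine ⟨⟨u, hu.1, hu.2.1, hu.2.2, h4, ha u hu h4⟩, fun s hs a1 a2 a3 => ?_⟩
  have rc : ∀ a b, r a → r b → r (a * b * a⁻¹) := fun a b ra rb => by
    have ca := ra.1.2.2.symm
    refine ⟨perp_conj t ca b rb.1, fun e he => ?_⟩
    have he' := perp_conj t ca.inv_left e he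
    rw [ra.2 e he, commute_conj_left (x := b), ← mul_inv_cancel_right a a, commute_conj_left, mul_inv_cancel_right]
    have := (ra.2 _ he').symm.trans (rb.2 _ he')
    have e1 : ∀ z, e ≠ a * z * a⁻¹ ↔ a⁻¹ * e * a⁻¹⁻¹ ≠ z := fun z =>
      not_congr ⟨fun e => by rw [e]; group, fun e => by rw [← e]; group⟩
    rw [e1 b, ← this, ← e1 a, mul_inv_cancel_right]
  have out : ∀ z ∈ E, ¬ r z → ∀ p, r p → Commute z p := fun z hz hn p hp => by
    have hzu : Commute u z := by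
      by_contra h5
      have h6 : Commute y' z := by_contra fun h => hn (hb z hz h)
      have := rc _ _ (hb u hu h4) (hb _ (perp_conj t hz.2.2.symm u hu) fun h7 => h4 (by
        rwa [← conj_eq_iff.2 h6.symm, commute_conj_iff] at h7))
      rw [t.inv hz.1, ← t.braid u hu.1 z hz.1 h5, t.inv hu.1] at this
      simp only [mul_assoc, t.cancel hu.1, t.sq u hu.1, mul_one] at this
      exact hn this
    exact ((hp.2 z hz).1 (((hb u hu h4).2 z hz).2 ⟨fun e => hn (e ▸ hb u hu h4), hzu⟩)).2.symm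
  obtain ⟨g, hg, e⟩ := h.transD hy hxE ⟨hs, a1, a2⟩
  have := closure_conj_inv (S := E) (B := {p | r p}) (fun z hz => by rwa [t.inv hz.1]) (fun z hz p hp => by
    by_cases h5 : r z
    · exact rc z p h5 hp
    · rwa [conj_eq_iff.2 (out z hz h5 p hp)]) g hg x ⟨hxE, fun _ _ => Iff.rfl⟩
  rw [e] at this
  by_contra hn
  exact ((this.2 s this.1).1 ⟨hn, a3⟩).1 rfl

theorem PW.sym5 (h : PW D) {x y y' : G} (hx : x ∈ D) (hy : y ∈ D) (hy' : y' ∈ D) (h1 : Commute x y) (h2 : Commute x y')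
    (n1 : y ≠ x) (h3 : ¬ Commute y y') (H : ∀ e ∈ D, e ≠ x → Commute x e → e ≠ y → Commute y e → Commute y' e) :
    Nonempty (G ≃* Perm (Fin 5)) := by
  classical
  have t := h.tt
  obtain ⟨⟨u, hu, u1, u2, u3, u4⟩, tf⟩ := h.trifree hx hy hy' h1 h2 n1 h3 H
  have tf' : ∀ e ∈ D, ∀ a ∈ D, ∀ b ∈ D, a ≠ e → b ≠ e → Commute e a → Commute e b → Commute a b → a = b := by
    intro e he a ha b hb a1 a2 a3 a4 a5
    obtain ⟨g, rfl⟩ := cls_conj h.cls hy he
    obtain ⟨k, hk, rfl⟩ := h.transD he ⟨t.conj g x hx, fun e => n1 (conj_inj'.1 e).symm, commute_conj_iff.2 h1.symm⟩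
      ⟨ha, a1, a3⟩
    have hk' := closure_comm (fun x hx => hx.2.2) k hk
    have := perp_conj t hk'.inv_left b ⟨hb, a2, a4⟩
    have e1 : ∀ z, z ≠ g * y * g⁻¹ → g⁻¹ * z * g⁻¹⁻¹ ≠ y := fun z h e => h (by rw [← e]; group)
    have := tf _ (t.conj g⁻¹ _ this.1) (e1 _ this.2.1) (commute_conj_left.1 this.2.2)
      (commute_conj_left.1 (commute_conj_left.1 a5))
    rw [← this]; group
  obtain ⟨a, ha⟩ := ncard_three t (B := {e : G | e ∈ D ∧ e ≠ y ∧ Commute y e}) (fun e he => he.1)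
    (fun a ha b hb => tf' y hy a ha.1 b hb.1 ha.2.1 hb.2.1 ha.2.2 hb.2.2) (fun a ha => perp_conj t ha.2.2.symm)
    ⟨hx, n1.symm, h1.symm⟩
  obtain ⟨b, hb⟩ := ncard_three t (B := {e : G | e ∈ D ∧ Commute y e ∧ Commute y' e}) (fun e he => he.1)
    (fun a ha b hb => tf' y hy a ha.1 b hb.1 (fun e => h3 (e ▸ ha.2.2.symm)) (fun e => h3 (e ▸ hb.2.2.symm)) ha.2.1 hb.2.1)
    (fun a ha b hb => ⟨t.conj a b hb.1, (ha.2.1.mul_right hb.2.1).mul_right ha.2.1.inv_right,
      (ha.2.2.mul_right hb.2.2).mul_right ha.2.2.inv_right⟩) ⟨hx, h1.symm, h2.symm⟩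
  have hab : b < a := by
    rw [← Nat.pow_lt_pow_iff_right (a := 3) (by norm_num), ← ha, ← hb]
    exact Set.ncard_lt_ncard ⟨fun e he => ⟨he.1, fun e' => h3 (e' ▸ he.2.2.symm), he.2.1⟩, fun h => u3 (h ⟨hu, u1, u2⟩).2.2⟩
  have hk : ∀ d ∈ D, {e : G | e ∈ D ∧ e ≠ d ∧ Commute d e}.ncard = 3 ^ a := fun d hd => by
    obtain ⟨g, rfl⟩ := cls_conj h.cls hy hd
    rw [← ha]
    exact (ncard_conj t (fun a e => e ≠ a ∧ Commute a e) g fun e => by rw [commute_conj_iff, Ne, conj_inj']).symm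
  haveI := Fintype.ofFinite D
  have adj : ∀ v w : D, (commutingGraph D).Adj v w ↔ (w : G) ≠ v ∧ Commute (v : G) w := fun v w => by
    rw [commutingGraph, SimpleGraph.fromRel_adj]
    exact ⟨fun h => ⟨fun e => h.1 (Subtype.ext e.symm), h.2.elim id Commute.symm⟩,
      fun h => ⟨fun e => h.1 (congrArg Subtype.val e).symm, Or.inl h.2⟩⟩
  have cnt : ∀ (S : Set D) (T : Set G), (∀ e, e ∈ T ↔ ∃ he : e ∈ D, ⟨e, he⟩ ∈ S) → Nat.card S = T.ncard := fun S T h => by
    rw [Nat.card_coe_set_eq, ← Set.ncard_image_of_injective _ Subtype.val_injective]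
    congr 1
    exact Set.ext fun e => by rw [h]; simp
  have srg : (commutingGraph D).IsSRGWith (Fintype.card D) (3 ^ a) 0 (3 ^ b) := by
    refine ⟨rfl, fun v => ?_, fun v w hvw => ?_, fun v w hne hvw => ?_⟩
    · rw [← SimpleGraph.card_neighborSet_eq_degree, ← Nat.card_eq_fintype_card, ← hk v v.2]
      exact cnt _ _ fun e => by simp only [Set.mem_setOf_eq, SimpleGraph.mem_neighborSet, adj, exists_prop]
    · rw [Fintype.card_eq_zero_iff]
      refine ⟨fun ⟨e, h1, h2⟩ => ?_⟩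
      simp only [SimpleGraph.mem_neighborSet, adj] at h1 h2 hvw
      exact h2.1 (tf' v v.2 e e.2 w w.2 h1.1 hvw.1 h1.2 hvw.2 h2.2.symm)
    · have hc : ¬ Commute (v : G) w := fun e => hvw ((adj v w).2 ⟨fun e => hne (Subtype.ext e.symm), e⟩)
      obtain ⟨g, hg⟩ := cls_conj h.cls hy v.2
      obtain ⟨k, hk, hk2⟩ := h.transA v.2 (t.conj g y' hy') w.2 (by rw [← hg, commute_conj_iff]; exact h3) hc
      have hk' := conj_eq_iff.2 (closure_comm (fun x hx => hx.2) k hk)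
      have := ncard_conj t (a := (1 : G)) (b := k * g)
        (fun a e => Commute (a * y * a⁻¹) e ∧ Commute (a * y' * a⁻¹) e) (k * g) fun e => by
          simp only [commute_conj_iff, one_mul, inv_one, mul_one]
      simp only [one_mul, inv_one, mul_one] at this
      rw [← Nat.card_eq_fintype_card, ← hb, this]
      refine cnt _ _ fun e => ?_
      have e1 : k * g * y * (k * g)⁻¹ = v := by rw [← hk', ← hg]; group
      have e2 : k * g * y' * (k * g)⁻¹ = w := by rw [← hk2]; group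
      simp only [Set.mem_setOf_eq, e1, e2, SimpleGraph.mem_commonNeighbors, adj, exists_prop]
      exact and_congr_right fun _ => ⟨fun h => ⟨⟨fun e => hc (e ▸ h.2.symm), h.1⟩, fun e => hc (e ▸ h.1), h.2⟩,
        fun h => ⟨h.1.2, h.2.2⟩⟩
  have ha1 := srg_three srg (Fintype.card_pos_iff.2 ⟨⟨x, hx⟩⟩) hab
  obtain ⟨e⟩ := Tr3.sym5 t hy hy' hu hx h3 u3 u4 u2 h1.symm h2.symm u1.symm tf' fun e he a1 a2 => by
    have h4 := hk x hx
    have n2 : y ≠ y' := fun e => h3 (e ▸ Commute.refl _)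
    have n3 : y * y' * y⁻¹ ≠ y := fun e => n2 (conj_inj'.1 ((mul_inv_cancel_right y y).trans e.symm))
    have n4 : y * y' * y⁻¹ ≠ y' := fun e => h3 (conj_eq_iff.1 e)
    have := Set.eq_of_subset_of_ncard_le (s := {y, y', y * y' * y⁻¹}) (t := {e : G | e ∈ D ∧ e ≠ x ∧ Commute x e}) (by
      have m : y' ∈ {e : G | e ∈ D ∧ e ≠ x ∧ Commute x e} := ⟨hy', fun e => h3 (e ▸ h1.symm), h2⟩
      rintro _ (rfl | rfl | rfl)
      exacts [⟨hy, n1, h1⟩, m, perp_conj t h1.symm _ m]) (by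
      rw [h4, ha1, Set.ncard_eq_three.2 ⟨_, _, _, n2, n3.symm, n4.symm, rfl⟩]; rfl)
    have m1 : y ∈ closure ({y, y'} : Set G) := subset_closure (Or.inl rfl)
    have m2 : y' ∈ closure ({y, y'} : Set G) := subset_closure (Or.inr rfl)
    rcases this.symm.subset ⟨he, a1, a2⟩ with rfl | rfl | rfl
    exacts [m1, m2, mul_mem (mul_mem m1 m2) (inv_mem m1)]
  rw [h.cls.2.2] at e
  exact ⟨topEquiv.symm.trans e⟩

end Cfsg.Agent.Tr3
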